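import Cfsg.Agent.H24.TTOrth.Vec
import Cfsg.Agent.H80.TTQuad.Basic

/-!
A member of a class of 3-transpositions whose residue has the commuting graph of the norm one
points of a space over the field with three elements: equivariance and translation of the
description.
-/

set_option autoImplicit false
set_option linter.unusedSectionVars false

namespace Cfsg.Agent.H24.TTOrth

open Cfsg
open H76.LocallyS3 (nb cj cj_cj cj_injective commute_cj_iff)
open H80.TTQuad (Cls cj_one cj_inv_cj cj_cj_inv cj_eq_of_commute nb_symm)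

universe u v

/-- The member `x` of the class `D` whose residue is described by `θ`. -/
structure Setup {G : Type u} [Group G] {V : Type v} [AddCommGroup V] [Module (ZMod 3) V]
    (D : Set G) (x : G) (B : V →ₗ[ZMod 3] V →ₗ[ZMod 3] ZMod 3) (θ : G → V) : Prop where
  cls : Cls D
  hx : x ∈ D
  form : Form B
  dim : 5 ≤ Module.finrank (ZMod 3) V
  pts : Pts (nb D x) B θ

variable {G : Type u} [Group G] {V : Type v} [AddCommGroup V] [Module (ZMod 3) V] [Finite V]
  {D : Set G} {x : G} {B : V →ₗ[ZMod 3] V →ₗ[ZMod 3] ZMod 3} {θ : G → V}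

/-- `θ a` is `y` up to sign. -/
def Is (θ : G → V) (a : G) (y : V) : Prop := θ a = y ∨ θ a = -y

theorem Is.self (θ : G → V) (a : G) : Is θ a (θ a) := Or.inl rfl

theorem Is.zero {a : G} {y z : V} (h : Is θ a y) : B (θ a) z = 0 ↔ B y z = 0 := by
  rcases h with e | e <;> simp [e]

theorem Is.zero' {a : G} {y z : V} (h : Is θ a y) : B z (θ a) = 0 ↔ B z y = 0 := by
  rcases h with e | e <;> simp [e]

theorem Is.refl_eq {a : G} {y z : V} (h : Is θ a y) : refl B (θ a) z = refl B y z := by
  rcases h with e | e <;> simp [e, refl_neg]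

namespace Setup

theorem isPoint {S : Set G} (P : Pts S B θ) {y : V} (hy : B y y = 1) : ∃ a ∈ S, Is θ a y :=
  P.surj y hy

theorem ne_of_orth {S : Set G} (P : Pts S B θ) {a b : G} (ha : a ∈ S)
    (h : B (θ a) (θ b) = 0) : a ≠ b := fun e => by
  rw [← e, P.norm a ha] at h
  exact one_ne_zero h

theorem comm_of_orth {S : Set G} (P : Pts S B θ) {a b : G} (ha : a ∈ S) (hb : b ∈ S)
    (h : B (θ a) (θ b) = 0) : Commute a b := (P.comm a ha b hb (ne_of_orth P ha h)).2 h

variable (M : Setup D x B θ)
include M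

theorem at_member {y : G} (hy : y ∈ D) : ∃ θ', Setup D y B θ' := by
  obtain ⟨g, rfl⟩ := M.cls.exists_cj M.hx hy
  refine ⟨fun a => θ (cj g⁻¹ a), ⟨M.cls, hy, M.form, M.dim, ?_⟩⟩
  have hb : ∀ a ∈ nb D (cj g x), cj g⁻¹ a ∈ nb D x := fun a ha => by
    have := M.cls.cj_nb g⁻¹ ha
    rwa [cj_inv_cj] at this
  refine ⟨fun a ha => M.pts.norm _ (hb a ha), fun a ha b hb' h => cj_injective g⁻¹
    (M.pts.inj _ (hb a ha) _ (hb b hb') h), fun v hv => ?_, fun a ha b hb' hne => ?_⟩
  · obtain ⟨a, ha, h⟩ := M.pts.surj v hv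
    exact ⟨cj g a, M.cls.cj_nb g ha, by rwa [cj_inv_cj]⟩
  · rw [← commute_cj_iff (g := g⁻¹)]
    exact M.pts.comm _ (hb a ha) _ (hb b hb') fun e => hne (cj_injective g⁻¹ e)

theorem cj_mem {a b : G} (ha : a ∈ nb D x) (hb : b ∈ nb D x) : cj a b ∈ nb D x :=
  M.cls.cj_mem_nb ha.2.2.symm hb

/-- The description turns conjugation into reflection. -/
theorem is_cj {a b : G} (ha : a ∈ nb D x) (hb : b ∈ nb D x) :
    Is θ (cj a b) (refl B (θ a) (θ b)) := by
  have F := M.form
  have hA := M.pts.norm a ha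
  by_cases hab : a = b
  · subst hab
    rw [cj_eq_of_commute (Commute.refl a)]
    refine Or.inr ?_
    simp only [refl, hA]
    rw [eq_neg_iff_add_eq_zero]
    match_scalars
    decide
  by_cases hc : Commute a b
  · rw [cj_eq_of_commute hc]
    exact Or.inl (by simp [refl, (M.pts.comm a ha b hb hab).1 hc])
  set c := cj a b
  have hcm : c ∈ nb D x := M.cj_mem ha hb
  obtain ⟨hbc, hac⟩ := M.cls.not_commute_cj ha.1 hb.1 hc
  have hcb : c ≠ b := fun e => hbc (show Commute b c by rw [e])
  have hca : c ≠ a := fun e => hac (show Commute a c by rw [e])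
  set α := B (θ a) (θ b) with hα
  have hα0 : α ≠ 0 := fun e => hc ((M.pts.comm a ha b hb hab).2 e)
  set γ := B (θ a) (θ c) with hγ
  have hγ0 : γ ≠ 0 := fun e => hac ((M.pts.comm a ha c hcm hca.symm).2 e)
  set X := perp B ⊤ (θ a)
  have hX : ND B X := F.nd_perp F.nd_top trivial (by rw [hA]; exact one_ne_zero)
  have hd : 4 ≤ Module.finrank (ZMod 3) X := by
    have h1 : Module.finrank (ZMod 3) (⊤ : Submodule (ZMod 3) V) ≤ Module.finrank (ZMod 3) X + 1 :=
      finrank_perp (B := B) ⊤ (θ a)
    have h2 : 5 ≤ Module.finrank (ZMod 3) (⊤ : Submodule (ZMod 3) V) := by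
      rw [finrank_top]; exact M.dim
    omega
  have hmem : ∀ y : V, ∀ k : ZMod 3, B (θ a) y = k → y - k • θ a ∈ X := fun y k h =>
    ⟨trivial, by show B (θ a) _ = 0; simp [hA, h]⟩
  have hiso : ∀ y : V, ∀ k : ZMod 3, k ≠ 0 → B (θ a) y = k → B y y = 1 →
      B (y - k • θ a) (y - k • θ a) = 0 := fun y k hk h hy => by
    simp only [map_sub, map_smul, LinearMap.sub_apply, LinearMap.smul_apply, smul_eq_mul, hA, hy,
      h, F.symm y (θ a)]
    linear_combination (-1) * mul_self_of_ne hk
  have hne : ∀ y : G, y ∈ nb D x → y ≠ a → θ y - B (θ a) (θ y) • θ a ≠ 0 := fun y hy hya e => by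
    rw [sub_eq_zero] at e
    by_cases h : B (θ a) (θ y) = 0
    · rw [h, zero_smul] at e
      have := M.pts.norm y hy
      rw [e] at this
      simp at this
    rcases eq_or_neg h with h' | h' <;> rw [h'] at e
    · exact hya (M.pts.inj y hy a ha (Or.inl (by simpa using e)))
    · exact hya (M.pts.inj y hy a ha (Or.inr (by simpa using e)))
  have hu := F.isotropic_unique hX hd (hmem (θ b) α hα.symm) (hmem (θ c) γ hγ.symm)
    (hne b hb (Ne.symm hab)) (hne c hcm hca) (hiso _ _ hα0 hα.symm (M.pts.norm b hb))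
    (hiso _ _ hγ0 hγ.symm (M.pts.norm c hcm)) fun z hz hz1 hzb => by
      obtain ⟨e, he, hez⟩ := M.pts.surj z hz1
      have hza : B (θ a) z = 0 := hz.2
      have hea : B (θ e) (θ a) = 0 := by rw [Is.zero hez, F.symm, hza]
      have heb : B (θ e) (θ b) = 0 := by
        rw [Is.zero hez]
        simpa [F.symm z (θ a), hza] using hzb
      have hzc : Commute e c := by
        show Commute e (cj a b)
        rw [← cj_eq_of_commute (comm_of_orth M.pts he ha hea).symm]
        exact commute_cj_iff.2 (comm_of_orth M.pts he hb heb)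
      have hec : e ≠ c := fun q => hac
        (show Commute a c by rw [← q]; exact (comm_of_orth M.pts he ha hea).symm)
      have := (M.pts.comm e he c hcm hec).1 hzc
      rw [Is.zero hez] at this
      simp [F.symm z (θ a), hza, this]
  have hnc := M.pts.norm c hcm
  have hbb := M.pts.norm b hb
  have hsm : ∀ k : ZMod 3, k ≠ 0 → θ c = k • θ b → False := fun k hk e => by
    rcases eq_or_neg hk with h | h <;> rw [h] at e
    · exact hcb (M.pts.inj c hcm b hb (Or.inl (by simpa using e)))
    · exact hcb (M.pts.inj c hcm b hb (Or.inr (by simpa using e)))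
  rcases eq_or_neg hα0 with h1 | h1 <;> rcases eq_or_neg hγ0 with h2 | h2 <;>
    rcases hu with e | e <;> rw [h1, h2] at e <;>
    simp only [Is, refl, ← hα, h1]
  all_goals
    first
      | exact absurd e fun e => hsm 1 (by decide) (by rw [← sub_eq_zero] at e ⊢; rw [← e]; module)
      | exact absurd e fun e => hsm (-1) (by decide) (by rw [← sub_eq_zero] at e ⊢; rw [← e]; module)
      | (left; rw [← sub_eq_zero] at e ⊢; rw [← e]; match_scalars <;> decide)
      | (right; rw [← sub_eq_zero] at e ⊢; rw [← e]; match_scalars <;> decide)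

end Setup

end Cfsg.Agent.H24.TTOrth
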