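import Cfsg.Agent.H24.TTOrth.Space

/-!
Points of norm one of a form over the field of three elements as a description of a set of
elements of a group.
-/

set_option autoImplicit false

namespace Cfsg.Agent.H24.TTOrth

universe u v

variable {G : Type u} [Group G] {V : Type v} [AddCommGroup V] [Module (ZMod 3) V]

/-- `θ` identifies `S` with the norm one points of `B` up to sign, commuting being
orthogonality. -/
structure Pts (S : Set G) (B : V →ₗ[ZMod 3] V →ₗ[ZMod 3] ZMod 3) (θ : G → V) : Prop where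
  norm : ∀ a ∈ S, B (θ a) (θ a) = 1
  inj : ∀ a ∈ S, ∀ b ∈ S, θ a = θ b ∨ θ a = -θ b → a = b
  surj : ∀ v : V, B v v = 1 → ∃ a ∈ S, θ a = v ∨ θ a = -v
  comm : ∀ a ∈ S, ∀ b ∈ S, a ≠ b → (Commute a b ↔ B (θ a) (θ b) = 0)

/-- The form `B ⊕ ⟨1⟩`. -/
def ext (B : V →ₗ[ZMod 3] V →ₗ[ZMod 3] ZMod 3) :
    (V × ZMod 3) →ₗ[ZMod 3] (V × ZMod 3) →ₗ[ZMod 3] ZMod 3 :=
  B.compl₁₂ (LinearMap.fst _ V (ZMod 3)) (LinearMap.fst _ V (ZMod 3)) +
    (LinearMap.mul (ZMod 3) (ZMod 3)).compl₁₂ (LinearMap.snd _ V (ZMod 3))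
      (LinearMap.snd _ V (ZMod 3))

theorem ext_apply (B : V →ₗ[ZMod 3] V →ₗ[ZMod 3] ZMod 3) (p q : V × ZMod 3) :
    ext B p q = B p.1 q.1 + p.2 * q.2 := rfl

end Cfsg.Agent.H24.TTOrth
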