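import Cfsg.Agent.H24.TTOrth.Base

/-!
Members not commuting with `x`: the members commuting with two of them and the translation
between two commuting ones.
-/

set_option autoImplicit false
set_option linter.unusedSectionVars false

namespace Cfsg.Agent.H24.TTOrth

open Cfsg
open H76.LocallyS3 (nb cj cj_cj cj_injective commute_cj_iff)
open H80.TTQuad (Cls cj_one cj_inv_cj cj_cj_inv cj_eq_of_commute commute_of_cj_eq nb_symm)

universe u

variable {G : Type u} [Group G] {D : Set G} {x f g p : G}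

/-- The members at `x` commuting with `f`. -/
def T (D : Set G) (x f : G) : Set G := {a | a ∈ nb D x ∧ Commute a f}

/-- The members of `T` at `t`. -/
def U (D : Set G) (x f t : G) : Set G := {a | a ∈ T D x f ∧ a ≠ t ∧ Commute t a}

variable (H : Cls D)
include H

theorem cj_cj_cj {a b c : G} : cj a (cj b c) = cj (cj a b) (cj a c) := by
  simp [cj, mul_assoc]

theorem conj_disjoint {a b : G} (ha : a ∈ D) (hb : b ∈ D) (hf : f ∈ D) (hab : Commute a b)
    (haf : ¬ Commute a f) (hbf : ¬ Commute b f) : Commute (cj a f) (cj b f) := by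
  rw [H.braid ha hf haf, H.braid hb hf hbf]
  exact commute_cj_iff.2 hab

/-- A member commuting with `x` translates `f` to a member commuting with `f`. -/
theorem commute_translate (hx : x ∈ D) (hf : f ∈ D) (hxf : ¬ Commute x f) (hp : p ∈ nb D x)
    (hpf : ¬ Commute p f) : Commute f (cj x (cj p f)) := by
  rw [← commute_cj_iff (g := x), H.cj_invol hx]
  exact conj_disjoint H hx hp.1 hf hp.2.2 hxf hpf

theorem translate_far (hf : f ∈ D) (hxf : ¬ Commute x f) (hp : p ∈ nb D x) :
    cj x (cj p f) ∈ D ∧ ¬ Commute x (cj x (cj p f)) := by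
  refine ⟨H.mem_cj x (H.mem_cj p hf), fun h => hxf ?_⟩
  have h1 : Commute (cj x x) (cj x (cj p f)) := by rwa [cj_eq_of_commute (Commute.refl x)]
  have h2 : Commute (cj p x) (cj p f) := by
    rw [cj_eq_of_commute hp.2.2.symm]
    exact commute_cj_iff.1 h1
  exact commute_cj_iff.1 h2

theorem translate_inj (hx : x ∈ D) (hf : f ∈ D) (hxf : ¬ Commute x f) (hp : p ∈ nb D x)
    (hpf : ¬ Commute p f) : cj (cj x (cj p f)) (cj f x) = p := by
  have hc := (commute_translate H hx hf hxf hp hpf).symm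
  have h1 : cj (cj x (cj p f)) (cj f x) = cj f (cj (cj x (cj p f)) x) := by
    rw [cj_cj_cj H, cj_eq_of_commute hc]
  have h2 : cj (cj x (cj p f)) x = cj x (cj (cj p f) x) := by
    conv_rhs => rw [cj_cj_cj H, cj_eq_of_commute (Commute.refl x)]
  have h3 : ¬ Commute (cj p f) x := fun q => hxf (by
    rw [← cj_eq_of_commute hp.2.2.symm] at q
    exact (commute_cj_iff.1 q).symm)
  have h4 : cj (cj p f) x = cj p (cj f x) := by
    conv_rhs => rw [cj_cj_cj H, cj_eq_of_commute hp.2.2.symm]
  have h5 : cj f x = cj x f := (H.braid hx hf hxf).symm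
  rw [h1, h2, h4, h5, cj_cj_cj H (a := x) (b := p), cj_eq_of_commute hp.2.2, H.cj_invol hx,
    ← H.braid hf hp.1 fun q => hpf q.symm, H.cj_invol hf]

theorem translate_exists (hx : x ∈ D) (hf : f ∈ D) (hxf : ¬ Commute x f) (hg : g ∈ D)
    (hxg : ¬ Commute x g) (hfg : Commute f g) (hne : g ≠ f) :
    ∃ p ∈ nb D x, ¬ Commute p f ∧ cj x (cj p f) = g := by
  set p := cj g (cj f x) with hp
  have hpD : p ∈ D := H.mem_cj _ (H.mem_cj _ hx)
  have hp' : p = cj f (cj g x) := by
    rw [hp, cj_cj_cj H, cj_eq_of_commute hfg.symm]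
  have hpx : Commute x p := by
    rw [← commute_cj_iff (g := f), hp', H.cj_invol hf, H.braid hf hx fun q => hxf q.symm,
      H.braid hg hx fun q => hxg q.symm, commute_cj_iff]
    exact hfg
  have hpf : ¬ Commute p f := by
    intro q
    have hgx : cj g x = p := by rw [← H.cj_invol hf (cj g x), ← hp', cj_eq_of_commute q.symm]
    refine (H.not_commute_cj hg hx fun q => hxg q.symm).1 ?_
    rw [hgx]
    exact hpx
  refine ⟨p, ⟨hpD, fun e => ?_, hpx⟩, hpf, ?_⟩
  · rw [e] at hpf
    have h := hp.symm.trans e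
    have h2 : cj f x = cj g x := by
      have := congrArg (cj g) h
      rwa [H.cj_invol hg] at this
    rw [H.braid hf hx fun q => hxf q.symm, H.braid hg hx fun q => hxg q.symm] at h2
    exact hne (cj_injective x h2.symm)
  · rw [H.braid hpD hf hpf, hp', H.cj_invol hf, H.braid hg hx fun q => hxg q.symm, H.cj_invol hx]

/-- The set `T` of a translate. -/
theorem mem_T_translate (hp : p ∈ nb D x) {a : G} :
    a ∈ T D x (cj x (cj p f)) ↔ cj p a ∈ T D x f := by
  simp only [T, Set.mem_ofPred_eq]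
  constructor
  · rintro ⟨ha, hc⟩
    refine ⟨H.cj_mem_nb hp.2.2.symm ha, ?_⟩
    rw [← cj_eq_of_commute ha.2.2, commute_cj_iff, ← H.cj_invol hp.1 a, commute_cj_iff] at hc
    exact hc
  · rintro ⟨ha, hc⟩
    have ha' : a ∈ nb D x := by
      have := H.cj_mem_nb (g := p) hp.2.2.symm ha
      rwa [H.cj_invol hp.1] at this
    refine ⟨ha', ?_⟩
    rw [← cj_eq_of_commute ha'.2.2, commute_cj_iff, ← H.cj_invol hp.1 a, commute_cj_iff]
    exact hc

theorem mem_T_cj_x {a : G} : a ∈ T D x (cj x f) ↔ a ∈ T D x f := by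
  simp only [T, Set.mem_ofPred_eq]
  refine and_congr_right fun ha => ?_
  conv_lhs => rw [← cj_eq_of_commute ha.2.2, commute_cj_iff]

theorem mem_T_cj (hp : p ∈ nb D x) {a : G} :
    a ∈ T D x (cj p f) ↔ cj p a ∈ T D x f := by
  rw [← mem_T_cj_x H, mem_T_translate H hp]

theorem far_cj_x (hx : x ∈ D) (hf : f ∈ D) (hxf : ¬ Commute x f) :
    cj x f ∈ D ∧ ¬ Commute x (cj x f) := ⟨H.mem_cj x hf, (H.not_commute_cj hx hf hxf).2⟩

theorem far_cj (hp : p ∈ nb D x) (hf : f ∈ D) (hxf : ¬ Commute x f) :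
    cj p f ∈ D ∧ ¬ Commute x (cj p f) := by
  refine ⟨H.mem_cj p hf, fun q => hxf ?_⟩
  rw [← cj_eq_of_commute hp.2.2.symm] at q
  exact commute_cj_iff.1 q

end Cfsg.Agent.H24.TTOrth
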