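import Cfsg.Agent.H24.TTOrth.Glue
import Cfsg.Prelude.Def_FischerSpaces

/-!
Every member not commuting with `x` has an isotropic vector: the members at `x` commuting with it
are the points orthogonal to that vector.
-/

set_option autoImplicit false
set_option linter.unusedSectionVars false

namespace Cfsg.Agent.H24.TTOrth

open Cfsg
open H76.LocallyS3 (nb cj cj_cj cj_injective commute_cj_iff)
open H80.TTQuad (Cls cj_one cj_inv_cj cj_cj_inv cj_eq_of_commute nb_symm)

universe u v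

variable {G : Type u} [Group G] {V : Type v} [AddCommGroup V] [Module (ZMod 3) V] [Finite V]
  {D : Set G} {x : G} {B : V →ₗ[ZMod 3] V →ₗ[ZMod 3] ZMod 3} {θ : G → V}

/-- The members at `x` commuting with `f` are the points orthogonal to `w`. -/
def HasW (D : Set G) (x : G) (B : V →ₗ[ZMod 3] V →ₗ[ZMod 3] ZMod 3) (θ : G → V) (f : G) (w : V) :
    Prop :=
  B w w = 0 ∧ w ≠ 0 ∧ ∀ z ∈ nb D x, z ∈ T D x f ↔ B (θ z) w = 0

namespace Setup

variable (M : Setup D x B θ)
include M

/-- Some member commutes with `x` and with a given member not commuting with `x`. -/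
theorem T_nonempty (hconn : (Cfsg.commutingGraph D).Connected) {f : G} (hf : Far D x f) :
    ∃ t, t ∈ T D x f := by
  by_contra hno
  have key : ∀ a b : ↥D, (Cfsg.commutingGraph D).Reachable a b →
      (Far D x a ∧ ∀ t, t ∉ T D x (a : G)) → (Far D x b ∧ ∀ t, t ∉ T D x (b : G)) := by
    rintro a b ⟨p⟩
    induction p with
    | nil => exact id
    | @cons u y w hadj _ ih =>
        rintro ⟨hu, hT⟩
        rw [Cfsg.commutingGraph, SimpleGraph.fromRel_adj] at hadj
        have hc : Commute (u : G) (y : G) := hadj.2.elim id Commute.symm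
        have hne : (y : G) ≠ u := fun e => hadj.1 (Subtype.ext e.symm)
        have hyf : Far D x y := by
          refine ⟨y.2, fun c => ?_⟩
          by_cases e : (y : G) = x
          · exact hu.2 (by rw [← e]; exact hc.symm)
          · exact hT y ⟨⟨y.2, e, c⟩, hc.symm⟩
        refine ih ⟨hyf, fun t ht => ?_⟩
        obtain ⟨p, hp, -, hg⟩ :=
          translate_exists M.cls M.hx hu.1 hu.2 hyf.1 hyf.2 hc hne
        rw [← hg] at ht
        exact hT _ ((mem_T_translate M.cls hp).1 ht)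
  push Not at hno
  obtain ⟨hfx, -⟩ := key ⟨f, hf.1⟩ ⟨x, M.hx⟩ (hconn.preconnected _ _) ⟨hf, hno⟩
  exact hfx.2 (Commute.refl x)

theorem mem_T_of_mem {f u a : G} (hu : u ∈ T D x f) (ha : a ∈ T D x f) : cj u a ∈ T D x f := by
  refine ⟨M.cj_mem hu.1 ha.1, ?_⟩
  have := (commute_cj_iff (g := u)).2 ha.2
  rwa [cj_eq_of_commute hu.2] at this

theorem isW_orth {f t u : G} (hf : Far D x f) (ht : t ∈ T D x f) (hu : u ∈ T D x f) {w : V}
    (h : IsW D x B θ f t w) : B (θ u) w = 0 := by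
  have F := M.form
  by_cases htu : u = t
  · rw [htu]; exact h.2.2.1
  by_cases hc : Commute t u
  · exact ((h.2.2.2 u hu.1).1 ⟨hu, htu, hc⟩).2
  by_contra ha
  set b := B (θ t) (θ u) with hb
  set u₀ := θ u - b • θ t with hu₀
  have ht1 := M.pts.norm t ht.1
  have hu₀t : B (θ t) u₀ = 0 := by simp [u₀, ← hb, ht1]
  have hwu : B w u₀ ≠ 0 := by
    have : B w u₀ = B (θ u) w := by
      simp [u₀, F.symm w (θ t), h.2.2.1, F.symm w (θ u)]
    rwa [this]
  have hX := M.nd_perp_one ht1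
  have hY := F.nd_perp_pair hX (r := w) (s := u₀) ⟨trivial, h.2.2.1⟩ ⟨trivial, hu₀t⟩ h.1 hwu
  have hd := M.finrank_perp_one (a := θ t)
  have hd1 := finrank_perp (B := B) (perp B ⊤ (θ t)) w
  have hd2 := finrank_perp (B := B) (perp B (perp B ⊤ (θ t)) w) u₀
  obtain ⟨z, hz, hz1⟩ := F.exists_one hY (by omega)
  have hzt : B z (θ t) = 0 := by rw [F.symm]; exact hz.1.1.2
  have hzu : B z (θ u) = 0 := by
    have h2 : B z u₀ = 0 := by rw [F.symm]; exact hz.2
    simpa [u₀, hzt] using h2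
  obtain ⟨s, hs, hIs⟩ := M.pts.surj z hz1
  have hsU : s ∈ U D x f t := (h.2.2.2 s hs).2
    ⟨by rw [Is.zero hIs]; exact hzt, by rw [Is.zero hIs, F.symm]; exact hz.1.2⟩
  have hsu : B (θ s) (θ u) = 0 := by rw [Is.zero hIs]; exact hzu
  have huU : u ∈ U D x f s := ⟨hu, (ne_of_orth M.pts hs hsu).symm, comm_of_orth M.pts hs hu.1 hsu⟩
  obtain ⟨w', hw'⟩ := M.exists_isW hf hsU.1
  have hh := ((hw'.2.2.2 u hu.1).1 huU).2
  rcases M.isW_adjacent hf hsU ht h hw' with e | e <;> rw [e] at hh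
  · exact ha hh
  · exact ha (by simpa using hh)

theorem isW_cj {f t u : G} (hu : u ∈ T D x f) (ht : t ∈ T D x f) {w : V}
    (h : IsW D x B θ f t w) (huw : B (θ u) w = 0) : IsW D x B θ f (cj u t) w := by
  have F := M.form
  have hu1 := M.pts.norm u hu.1
  have hr : refl B (θ u) w = w := by simp [refl, huw]
  have hI := M.is_cj hu.1 ht.1
  refine ⟨h.1, h.2.1, ?_, fun z hz => ?_⟩
  · rw [Is.zero hI, ← hr, F.refl_refl' hu1]
    exact h.2.2.1
  have hz' := M.cj_mem hu.1 hz
  have hI' := M.is_cj hu.1 hz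
  have e1 : z ∈ U D x f (cj u t) ↔ cj u z ∈ U D x f t := by
    constructor
    · rintro ⟨h1, h2, h3⟩
      refine ⟨M.mem_T_of_mem hu h1, fun e => h2 ?_, ?_⟩
      · rw [← e, M.cls.cj_invol hu.1.1]
      · have := (commute_cj_iff (g := u)).2 h3
        rwa [M.cls.cj_invol hu.1.1] at this
    · rintro ⟨h1, h2, h3⟩
      refine ⟨?_, fun e => h2 (by rw [e, M.cls.cj_invol hu.1.1]), ?_⟩
      · have := M.mem_T_of_mem hu h1
        rwa [M.cls.cj_invol hu.1.1] at this
      · have := (commute_cj_iff (g := u)).2 h3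
        rwa [M.cls.cj_invol hu.1.1] at this
  rw [e1, h.2.2.2 _ hz', Is.zero hI', Is.zero hI', Is.zero' hI, F.refl_adj hu1, F.refl_adj hu1,
    hr]

theorem exists_hasW (hconn : (Cfsg.commutingGraph D).Connected) {f : G} (hf : Far D x f) :
    ∃ w, HasW D x B θ f w := by
  have F := M.form
  obtain ⟨t, ht⟩ := M.T_nonempty hconn hf
  obtain ⟨w, hw⟩ := M.exists_isW hf ht
  have hall : ∀ u ∈ T D x f, IsW D x B θ f u w := by
    intro u hu
    by_cases htu : u = t
    · rwa [htu]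
    obtain ⟨w', hw'⟩ := M.exists_isW hf hu
    have hpm : w' = w ∨ w' = -w := by
      by_cases hc : Commute t u
      · exact M.isW_adjacent hf ⟨hu, htu, hc⟩ ht hw hw'
      have h1 := M.isW_cj hu ht hw (M.isW_orth hf ht hu hw)
      have h2 := M.isW_cj ht hu hw' (M.isW_orth hf hu ht hw')
      rw [M.cls.braid ht.1.1 hu.1.1 hc] at h2
      exact M.isW_unique (M.cj_mem hu.1 ht.1) h1 h2
    rcases hpm with e | e
    · rwa [← e]
    · obtain ⟨a, b, c, d⟩ := hw'
      refine ⟨hw.1, hw.2.1, ?_, fun z hz => ?_⟩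
      · rw [e] at c; simpa using c
      · have := d z hz
        rwa [e, map_neg, neg_eq_zero] at this
  have horth : ∀ u ∈ T D x f, B (θ u) w = 0 := fun u hu => (hall u hu).2.2.1
  have hfib : ∀ u ∈ T D x f, ∀ k : ZMod 3, ∀ z ∈ nb D x, Is θ z (θ u + k • w) → z ∈ T D x f := by
    intro u hu k z hz hI
    obtain ⟨s, hs⟩ := M.U_nonempty hf hu
    have hsR := (M.mem_U.1 hs).1
    obtain ⟨hsu, hsw⟩ := ((hall u hu).2.2.2 s hsR).1 hs
    refine (((hall s hs.1).2.2.2 z hz).2 ⟨?_, ?_⟩).1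
    · rw [Is.zero hI]
      simp [F.symm (θ u) (θ s), hsu, F.symm w (θ s), hsw]
    · rw [Is.zero hI]
      simp [horth u hu, hw.1]
  refine ⟨w, hw.1, hw.2.1, fun z hz => ⟨fun h => horth z h, fun h => ?_⟩⟩
  by_contra hzT
  obtain ⟨p, hp, hI, hinj⟩ := M.line_points (M.pts.norm z hz) hw.1 h hw.2.1
  have ht' : cj (p 0) t ∈ nb D x := M.cj_mem (hp 0) ht.1
  refine M.no_translates hf p hp (fun k hk => hzT ?_) hinj (t' := cj (p 0) t) (fun k => ?_)
    fun j k a ha _ _ hj => M.trans_mem hw.1 h horth hfib (hp j) (hp k) (hI j) (hI k) ha hj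
  · rcases hI k with q | q
    · exact hfib _ hk (-k) z hz (by rw [q, neg_smul, add_neg_cancel_right]; exact Is.self θ z)
    · exact hfib _ hk k z hz (Or.inr (by rw [q]; abel))
  · exact M.trans_mem hw.1 h horth hfib (hp 0) (hp k) (hI 0) (hI k) ht'
      (by rw [M.cls.cj_invol (hp 0).1]; exact ht)

end Setup

end Cfsg.Agent.H24.TTOrth
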