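import Cfsg.Agent.H24.TTOrth.Local

/-!
The members commuting with `x` and a member `f` not commuting with it are the points orthogonal to
one isotropic vector.
-/

set_option autoImplicit false
set_option linter.unusedSectionVars false

namespace Cfsg.Agent.H24.TTOrth

open Cfsg
open H76.LocallyS3 (nb cj cj_cj cj_injective commute_cj_iff)
open H80.TTQuad (Cls cj_one cj_inv_cj cj_cj_inv cj_eq_of_commute nb_symm)

universe u v

variable {G : Type u} [Group G] {V : Type v} [AddCommGroup V] [Module (ZMod 3) V] [Finite V]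
  {D : Set G} {x : G} {B : V →ₗ[ZMod 3] V →ₗ[ZMod 3] ZMod 3} {θ : G → V}

theorem refl_add (v y z : V) : refl B v (y + z) = refl B v y + refl B v z := by
  simp only [refl, map_add, add_smul]
  abel

/-- The isotropic vector of `f` at `t`. -/
def IsW (D : Set G) (x : G) (B : V →ₗ[ZMod 3] V →ₗ[ZMod 3] ZMod 3) (θ : G → V) (f t : G) (w : V) :
    Prop :=
  B w w = 0 ∧ w ≠ 0 ∧ B (θ t) w = 0 ∧
    ∀ z ∈ nb D x, z ∈ U D x f t ↔ B (θ z) (θ t) = 0 ∧ B (θ z) w = 0

namespace Setup

variable (M : Setup D x B θ)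
include M

theorem is_cj' {a b : G} (ha : a ∈ nb D x) (hb : b ∈ nb D x) {v y : V} (hv : Is θ a v)
    (hy : Is θ b y) : Is θ (cj a b) (refl B v y) := by
  have h := M.is_cj ha hb
  rw [hv.refl_eq] at h
  rcases hy with e | e
  · rwa [e] at h
  · rw [e, refl, map_neg, neg_smul, ← neg_add] at h
    rcases h with h | h
    · exact Or.inr h
    · exact Or.inl (by rw [h, neg_neg]; rfl)

theorem eq_of_is {a b : G} (ha : a ∈ nb D x) (hb : b ∈ nb D x) {y : V} (h : Is θ a y)
    (h' : Is θ b y) : a = b := by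
  rcases h with e | e <;> rcases h' with e' | e' <;>
    exact M.pts.inj a ha b hb (by rw [e, e']; simp)

theorem line_norm {v w : V} (hv : B v v = 1) (hw : B w w = 0) (hvw : B v w = 0) (k : ZMod 3) :
    B (v + k • w) (v + k • w) = 1 := by
  rw [M.form.shift, hv, hw, hvw]; ring

/-- A set closed along the lines of `w` is kept by two translations on one line. -/
theorem trans_mem {S : Set G} {w v : V} (hw : B w w = 0) (hvw : B v w = 0)
    (h1 : ∀ u ∈ S, B (θ u) w = 0)
    (h2 : ∀ u ∈ S, ∀ k : ZMod 3, ∀ z ∈ nb D x, Is θ z (θ u + k • w) → z ∈ S) {p p' a : G}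
    (hp : p ∈ nb D x) (hp' : p' ∈ nb D x) {j k : ZMod 3} (hj : Is θ p (v + j • w))
    (hk : Is θ p' (v + k • w)) (ha : a ∈ nb D x) (h : cj p a ∈ S) : cj p' a ∈ S := by
  have e1 := M.is_cj' hp ha hj (Is.self θ a)
  have e2 := M.is_cj' hp' ha hk (Is.self θ a)
  have haw : B (θ a) w = 0 := by
    have := h1 _ h
    rw [Is.zero e1] at this
    simpa [refl, hvw, hw] using this
  have key : refl B (v + k • w) (θ a) =
      refl B (v + j • w) (θ a) + (B v (θ a) * (k - j)) • w := by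
    simp only [refl, map_add, map_smul, LinearMap.add_apply, LinearMap.smul_apply, smul_eq_mul,
      M.form.symm w (θ a), haw, mul_zero, add_zero]
    module
  rw [key] at e2
  rcases e1 with e | e
  · exact h2 _ h _ _ (M.cj_mem hp' ha) (by rw [e]; exact e2)
  · refine h2 _ h (-(B v (θ a) * (k - j))) _ (M.cj_mem hp' ha) ?_
    rw [e, neg_smul, ← neg_add]
    rcases e2 with e2 | e2
    · exact Or.inr (by rw [e2, neg_neg])
    · exact Or.inl e2

/-- No three translates of `f` have the same members at one common member. -/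
theorem no_translates {f t' : G} (hf : Far D x f) (p : ZMod 3 → G) (hp : ∀ k, p k ∈ nb D x)
    (hpf : ∀ k, p k ∉ T D x f) (hinj : Function.Injective p)
    (hmem : ∀ k, cj (p k) t' ∈ T D x f)
    (hset : ∀ j k a, a ∈ nb D x → a ≠ t' → Commute t' a → cj (p j) a ∈ T D x f →
      cj (p k) a ∈ T D x f) : False := by
  have hnc : ∀ k, ¬ Commute (p k) f := fun k c => hpf k ⟨hp k, c⟩
  set g : ZMod 3 → G := fun k => cj x (cj (p k) f) with hg
  have hfar : ∀ k, Far D x (g k) := fun k => translate_far M.cls hf.1 hf.2 (hp k)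
  have hgt : ∀ k, t' ∈ T D x (g k) := fun k => (mem_T_translate M.cls (hp k)).2 (hmem k)
  have ginj : Function.Injective g := fun j k e => hinj (by
    rw [← translate_inj M.cls M.hx hf.1 hf.2 (hp j) (hnc j),
      ← translate_inj M.cls M.hx hf.1 hf.2 (hp k) (hnc k)]
    show cj (g j) (cj f x) = cj (g k) (cj f x)
    rw [e])
  have hall : ∀ k, g k = g 0 ∨ g k = cj x (g 0) := fun k =>
    M.eq_of_U (hfar 0) (hfar k) (hgt 0) (hgt k) fun a ha => by
      rw [M.mem_U] at ha ⊢
      obtain ⟨ha1, ha2, ha3, ha4⟩ := ha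
      exact ⟨ha1, ((mem_T_translate M.cls (hp k)).2
        (hset 0 k a ha1 ha3 ha4 ((mem_T_translate M.cls (hp 0)).1 ⟨ha1, ha2⟩))).2, ha3, ha4⟩
  rcases hall 1 with e | e
  · exact absurd (ginj e) (by decide)
  rcases hall 2 with e' | e'
  · exact absurd (ginj e') (by decide)
  exact absurd (ginj (e.trans e'.symm)) (by decide)

theorem line_points {v w : V} (hv : B v v = 1) (hw : B w w = 0) (hvw : B v w = 0) (hne : w ≠ 0) :
    ∃ p : ZMod 3 → G, (∀ k, p k ∈ nb D x) ∧ (∀ k, Is θ (p k) (v + k • w)) ∧ Function.Injective p := by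
  choose p hp hI using fun k : ZMod 3 => M.pts.surj (v + k • w) (M.line_norm hv hw hvw k)
  refine ⟨p, hp, hI, fun j k e => ?_⟩
  by_contra hne'
  have h : v + j • w = v + k • w ∨ v + j • w = -(v + k • w) := by
    have h1 := hI j
    rw [e] at h1
    rcases h1 with a | a <;> rcases hI k with b | b <;> rw [a] at b
    · exact Or.inl b
    · exact Or.inr b
    · exact Or.inr (by rw [← b, neg_neg])
    · exact Or.inl (neg_injective b)
  rcases h with h | h
  · rw [add_right_inj, ← sub_eq_zero, ← sub_smul] at h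
    rcases eq_or_neg (sub_ne_zero.2 hne') with q | q <;> rw [q] at h <;> simp [hne] at h
  · have e3 : v = (j + k) • w := by
      have h3 : (3 : ZMod 3) • v = 0 := by rw [show (3 : ZMod 3) = 0 from rfl, zero_smul]
      rw [← sub_eq_zero] at h ⊢
      linear_combination (norm := module) h3 - h
    rw [e3] at hv
    simp [hw] at hv

theorem exists_isW {f t : G} (hf : Far D x f) (ht : t ∈ T D x f) : ∃ w, IsW D x B θ f t w := by
  have F := M.form
  obtain ⟨s, hs⟩ := M.U_nonempty hf ht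
  obtain ⟨w, hw0, hwne, htw, -, hU, hconv, -⟩ := M.U_point hf ht hs
  have hsR := (M.mem_U.1 hs).1
  have hts : B (θ t) (θ s) = 0 :=
    (M.pts.comm t ht.1 s hsR fun e => hs.2.1 e.symm).1 hs.2.2
  have hfib : ∀ u ∈ U D x f t, ∀ k : ZMod 3, ∀ z ∈ nb D x, Is θ z (θ u + k • w) →
      z ∈ U D x f t := by
    intro u hu
    obtain ⟨w', hw0', hwne', htw', huw', hU', -, hfib'⟩ := M.U_point hf ht hu
    have hww : B w' w = 0 := by
      obtain ⟨z, hz, hIz⟩ := M.pts.surj (θ u + (1 : ZMod 3) • w')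
        (M.line_norm (M.pts.norm u (M.mem_U.1 hu).1) hw0' huw' 1)
      have := hU z (hfib' 1 z hz hIz)
      rw [Is.zero hIz, one_smul, map_add, LinearMap.add_apply, hU u hu, zero_add] at this
      exact this
    have hX1 : ND B (perp B ⊤ (θ t)) := M.nd_perp_one (M.pts.norm t ht.1)
    have hX := F.nd_perp hX1 (a := θ s) ⟨trivial, hts⟩
      (by rw [M.pts.norm s hsR]; exact one_ne_zero)
    have hsw' : B (θ s) w' = 0 := hU' s hs
    have hsw : B (θ s) w = 0 := hU s hs
    rcases F.unique_of_orth hX ⟨⟨trivial, htw⟩, hsw⟩ ⟨⟨trivial, htw'⟩, hsw'⟩ hwne hwne' hw0'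
      (by rw [F.symm]; exact hww) (fun z hz hz1 hzw => by
        obtain ⟨e, he, hez⟩ := M.pts.surj z hz1
        have := hU' e (hconv e he (by rw [Is.zero hez, F.symm]; exact hz.1.2)
          (by rw [Is.zero hez, F.symm]; exact hz.2) (by rw [Is.zero hez]; exact hzw))
        rwa [Is.zero hez] at this) with q | q
    · intro k z hz hI
      exact hfib' k z hz (by rwa [q])
    · intro k z hz hI
      exact hfib' (-k) z hz (by rwa [q, neg_smul, smul_neg, neg_neg])
  refine ⟨w, hw0, hwne, htw, fun z hz => ⟨fun h => ⟨?_, hU z h⟩, fun h => ?_⟩⟩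
  · rw [F.symm]
    exact (M.pts.comm t ht.1 z hz fun e => h.2.1 e.symm).1 h.2.2
  by_contra hzU
  obtain ⟨p, hp, hI, hinj⟩ := M.line_points (M.pts.norm z hz) hw0 h.2 hwne
  have hpt : ∀ k, B (θ (p k)) (θ t) = 0 := fun k => by
    rw [Is.zero (hI k), map_add, LinearMap.add_apply, h.1, map_smul, LinearMap.smul_apply,
      F.symm w, htw, smul_zero, add_zero]
  have hptc : ∀ k, cj (p k) t = t := fun k =>
    cj_eq_of_commute (comm_of_orth M.pts (hp k) ht.1 (hpt k))
  refine M.no_translates hf p hp (fun k hk => hzU ?_) hinj (t' := t)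
    (fun k => by rw [hptc k]; exact ht) fun j k a ha hat hta hj => ?_
  · have hkU : p k ∈ U D x f t := ⟨hk, ne_of_orth M.pts (hp k) (hpt k),
      (comm_of_orth M.pts (hp k) ht.1 (hpt k)).symm⟩
    rcases hI k with q | q
    · exact hfib _ hkU (-k) z hz (by rw [q, neg_smul, add_neg_cancel_right]; exact Is.self θ z)
    · refine hfib _ hkU k z hz (Or.inr ?_)
      rw [q]; abel
  · have hjU : cj (p j) a ∈ U D x f t := by
      refine ⟨hj, fun e => hat (cj_injective (p j) (e.trans (hptc j).symm)), ?_⟩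
      have := (commute_cj_iff (g := p j)).2 hta
      rwa [hptc j] at this
    exact (M.trans_mem hw0 h.2 hU hfib (hp j) (hp k) (hI j) (hI k) ha hjU).1

theorem isW_unique {f t : G} (ht : t ∈ nb D x) {w w' : V} (h : IsW D x B θ f t w)
    (h' : IsW D x B θ f t w') : w' = w ∨ w' = -w := by
  have F := M.form
  refine F.isotropic_unique (M.nd_perp_one (M.pts.norm t ht)) M.finrank_perp_one
    (X := perp B ⊤ (θ t)) ⟨trivial, h.2.2.1⟩ ⟨trivial, h'.2.2.1⟩ h.2.1 h'.2.1 h.1 h'.1
    fun z hz hz1 hzw => ?_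
  obtain ⟨e, he, hez⟩ := M.pts.surj z hz1
  have := ((h'.2.2.2 e he).1 ((h.2.2.2 e he).2
    ⟨by rw [Is.zero hez, F.symm]; exact hz.2, by rw [Is.zero hez]; exact hzw⟩)).2
  rwa [Is.zero hez] at this

theorem isW_adjacent {f t s : G} (hf : Far D x f) (hs : s ∈ U D x f t) {w w' : V}
    (ht : t ∈ T D x f) (h : IsW D x B θ f t w) (h' : IsW D x B θ f s w') :
    w' = w ∨ w' = -w := by
  have F := M.form
  have hsR := (M.mem_U.1 hs).1
  obtain ⟨hst, hsw⟩ := (h.2.2.2 s hsR).1 hs
  have hts : t ∈ U D x f s := ⟨ht, hs.2.1.symm, hs.2.2.symm⟩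
  obtain ⟨-, htw'⟩ := (h'.2.2.2 t ht.1).1 hts
  have hts0 : B (θ t) (θ s) = 0 := by rw [F.symm]; exact hst
  set X := perp B (perp B ⊤ (θ t)) (θ s)
  have hX : ND B X := F.nd_perp (M.nd_perp_one (M.pts.norm t ht.1)) (a := θ s) ⟨trivial, hts0⟩
    (by rw [M.pts.norm s hsR]; exact one_ne_zero)
  have hwX : w ∈ X := ⟨⟨trivial, h.2.2.1⟩, hsw⟩
  have hwX' : w' ∈ X := ⟨⟨trivial, htw'⟩, h'.2.2.1⟩
  have key : ∀ z ∈ X, B z z = 1 → B z w = 0 → B z w' = 0 := fun z hz hz1 hzw => by
    obtain ⟨e, he, hez⟩ := M.pts.surj z hz1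
    have het : B (θ e) (θ t) = 0 := by rw [Is.zero hez, F.symm]; exact hz.1.2
    have hes : B (θ e) (θ s) = 0 := by rw [Is.zero hez, F.symm]; exact hz.2
    have heT := (h.2.2.2 e he).2 ⟨het, by rw [Is.zero hez]; exact hzw⟩
    have := ((h'.2.2.2 e he).1 ⟨heT.1, ne_of_orth M.pts he hes,
      (comm_of_orth M.pts he hsR hes).symm⟩).2
    rwa [Is.zero hez] at this
  by_cases hww : B w w' = 0
  · exact F.unique_of_orth hX hwX hwX' h.2.1 h'.2.1 h'.1 hww key
  exfalso
  have hY := F.nd_perp_pair hX hwX hwX' h.1 hww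
  have hd0 := M.finrank_perp_one (a := θ t)
  have hd1 : Module.finrank (ZMod 3) (perp B ⊤ (θ t)) ≤ Module.finrank (ZMod 3) X + 1 :=
    finrank_perp (B := B) (perp B ⊤ (θ t)) (θ s)
  have hd2 := finrank_perp (B := B) X w
  have hd3 := finrank_perp (B := B) (perp B X w) w'
  obtain ⟨e, he, hq⟩ := F.exists_aniso hY (by omega)
  have hew : B e w = 0 := by rw [F.symm]; exact he.1.2
  have hew' : B e w' = 0 := by rw [F.symm]; exact he.2
  rcases eq_or_neg hq with hq1 | hq1
  · have := key (e + w) (X.add_mem he.1.1 hwX) (by rw [F.add_sq, hq1, h.1, hew]; ring)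
      (by rw [map_add, LinearMap.add_apply, hew, h.1, add_zero])
    rw [map_add, LinearMap.add_apply, hew', zero_add] at this
    exact hww this
  set c := B w w' with hc
  set u := c • w' with hu
  have huu : B w u = 1 := by rw [hu, map_smul, smul_eq_mul, ← hc, mul_self_of_ne hww]
  have het : B e (θ t) = 0 := by rw [F.symm]; exact he.1.1.1.2
  have hes : B e (θ s) = 0 := by rw [F.symm]; exact he.1.1.2
  have heu : B e u = 0 := by rw [hu, map_smul, hew', smul_zero]
  have hut : B u (θ t) = 0 := by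
    rw [hu, map_smul, LinearMap.smul_apply, F.symm, htw', smul_zero]
  have hus : B u (θ s) = 0 := by
    rw [hu, map_smul, LinearMap.smul_apply, F.symm, h'.2.2.1, smul_zero]
  obtain ⟨n1, n2, n3, n4, Kt, Ks, Kw, Ku⟩ := four_refl F (M.pts.norm t ht.1) (M.pts.norm s hsR)
    hts0 h.1 huu hq1 het hes hew heu (by rw [F.symm]; exact h.2.2.1) (by rw [F.symm]; exact hsw)
    hut hus
  obtain ⟨a1, ha1, i1⟩ := M.pts.surj _ n1
  obtain ⟨a2, ha2, i2⟩ := M.pts.surj _ n2
  obtain ⟨a3, ha3, i3⟩ := M.pts.surj _ n3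
  obtain ⟨a4, ha4, i4⟩ := M.pts.surj _ n4
  set g := a1 * a2 * a3 * a4 with hg
  have hcj : ∀ b : G, cj g b = cj a1 (cj a2 (cj a3 (cj a4 b))) := fun b => by
    rw [hg, ← cj_cj, ← cj_cj, ← cj_cj]
  have hmem : ∀ b ∈ nb D x, cj g b ∈ nb D x := fun b hb => by
    rw [hcj]; exact M.cj_mem ha1 (M.cj_mem ha2 (M.cj_mem ha3 (M.cj_mem ha4 hb)))
  set K := fun y : V => refl B (e + (θ s - θ t)) (refl B (e - (θ s - θ t))
      (refl B (e - w + (θ s - θ t)) (refl B (e - w - (θ s - θ t)) y))) with hK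
  have hIs : ∀ b ∈ nb D x, ∀ y : V, Is θ b y → Is θ (cj g b) (K y) := fun b hb y hy => by
    rw [hcj]
    exact M.is_cj' ha1 (M.cj_mem ha2 (M.cj_mem ha3 (M.cj_mem ha4 hb))) i1
      (M.is_cj' ha2 (M.cj_mem ha3 (M.cj_mem ha4 hb)) i2
        (M.is_cj' ha3 (M.cj_mem ha4 hb) i3 (M.is_cj' ha4 hb i4 hy)))
  have hiso : ∀ y z : V, B (K y) (K z) = B y z := fun y z => by
    simp only [hK, F.refl_refl' n1, F.refl_refl' n2, F.refl_refl' n3, F.refl_refl' n4]
  have hgt : cj g t = t := M.eq_of_is (hmem t ht.1) ht.1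
    (y := θ t) (by have := hIs t ht.1 _ (Is.self θ t); rwa [show K (θ t) = θ t from Kt] at this)
    (Is.self θ t)
  have hgs : cj g s = s := M.eq_of_is (hmem s hsR) hsR
    (y := θ s) (by have := hIs s hsR _ (Is.self θ s); rwa [show K (θ s) = θ s from Ks] at this)
    (Is.self θ s)
  have hfar : Far D x (cj g f) := by
    rw [hcj]
    have f4 := far_cj M.cls ha4 hf.1 hf.2
    have f3 := far_cj M.cls ha3 f4.1 f4.2
    have f2 := far_cj M.cls ha2 f3.1 f3.2
    exact far_cj M.cls ha1 f2.1 f2.2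
  have hgx : Commute g x := by
    rw [hg]
    exact ((ha1.2.2.symm.mul_left ha2.2.2.symm).mul_left ha3.2.2.symm).mul_left ha4.2.2.symm
  have hft : t ∈ T D x (cj g f) := by
    refine ⟨ht.1, ?_⟩
    have := (commute_cj_iff (g := g)).2 ht.2
    rwa [hgt] at this
  have hpair := M.eq_of_U hfar hf hft ht fun a ha => by
    obtain ⟨ha1', ha2', ha3', ha4'⟩ := M.mem_U.1 ha
    have hb : cj g⁻¹ a ∈ nb D x := M.cls.cj_mem_nb (hgx.inv_left) ha1'
    have hbU : cj g⁻¹ a ∈ U D x f t := by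
      refine ⟨⟨hb, ?_⟩, fun q => ha3' ?_, ?_⟩
      · have := (commute_cj_iff (g := g⁻¹)).2 ha2'
        rwa [cj_inv_cj] at this
      · rw [← hgt, ← q, cj_cj_inv]
      · have := (commute_cj_iff (g := g⁻¹)).2 ha4'
        rwa [show cj g⁻¹ t = t by conv_lhs => rw [← hgt, cj_inv_cj]] at this
    obtain ⟨b1, b2⟩ := (h.2.2.2 _ hb).1 hbU
    have hI := hIs _ hb _ (Is.self θ _)
    rw [cj_cj_inv] at hI
    exact (h.2.2.2 a ha1').2 ⟨by rw [Is.zero hI, ← show K (θ t) = θ t from Kt, hiso]; exact b1,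
      by rw [Is.zero hI, ← show K w = w from Kw, hiso]; exact b2⟩
  have hT : ∀ a, a ∈ T D x (cj g f) → a ∈ T D x f := fun a ha => by
    rcases hpair with q | q
    · rw [q]; exact ha
    · rw [q]; exact (mem_T_cj_x M.cls).2 ha
  obtain ⟨z, hz, hIz⟩ := M.pts.surj (θ t + (1 : ZMod 3) • u)
    (M.line_norm (M.pts.norm t ht.1) (by simp [hu, h'.1]) (by rw [F.symm]; exact hut) 1)
  have hzU : z ∈ U D x f s := (h'.2.2.2 z hz).2
    ⟨by rw [Is.zero hIz]; simp [hts0, hus],
     by rw [Is.zero hIz]; simp [htw', hu, h'.1]⟩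
  have hzT : cj g z ∈ U D x f s := by
    refine ⟨hT _ ⟨hmem z hz, commute_cj_iff.2 hzU.1.2⟩,
      fun q => hzU.2.1 (cj_injective g (q.trans hgs.symm)), ?_⟩
    have := (commute_cj_iff (g := g)).2 hzU.2.2
    rwa [hgs] at this
  have h5 := ((h'.2.2.2 _ (hmem z hz)).1 hzT).2
  rw [Is.zero (hIs z hz _ hIz)] at h5
  have hKz : K (θ t + (1 : ZMod 3) • u) = θ t + (u - w - e) := by
    simp only [hK, one_smul, refl_add]
    congr 1
  rw [hKz] at h5
  simp [htw', hu, h'.1, hew', ← hc, hww] at h5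

end Setup

end Cfsg.Agent.H24.TTOrth
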