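import Cfsg.Agent.H24.TTOrth.Far

/-!
The common members of `x`, a member `f` not commuting with it and a third member `t` commuting
with both: in the residue of `x` they are the points orthogonal to `θ t` and to an isotropic
vector.
-/

set_option autoImplicit false
set_option linter.unusedSectionVars false

namespace Cfsg.Agent.H24.TTOrth

open Cfsg
open H76.LocallyS3 (nb cj cj_cj cj_injective commute_cj_iff)
open H80.TTQuad (Cls cj_one cj_inv_cj cj_cj_inv cj_eq_of_commute nb_symm)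

universe u v

variable {G : Type u} [Group G] {V : Type v} [AddCommGroup V] [Module (ZMod 3) V] [Finite V]
  {D : Set G} {x : G} {B : V →ₗ[ZMod 3] V →ₗ[ZMod 3] ZMod 3} {θ : G → V}

/-- A member at `x` not commuting with `f`, as a set. -/
def Far (D : Set G) (x f : G) : Prop := f ∈ D ∧ ¬ Commute x f

namespace Setup

variable (M : Setup D x B θ)
include M

theorem mem_U {f t a : G} :
    a ∈ U D x f t ↔ a ∈ nb D x ∧ Commute a f ∧ a ≠ t ∧ Commute t a :=
  ⟨fun h => ⟨h.1.1, h.1.2, h.2.1, h.2.2⟩, fun h => ⟨⟨h.1, h.2.1⟩, h.2.2.1, h.2.2.2⟩⟩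

/-- The picture in the residue of `t`. -/
theorem model {f t : G} (hf : Far D x f) (ht : t ∈ T D x f) :
    ∃ θ' : G → V, ∃ r : V, Setup D t B θ' ∧ x ∈ nb D t ∧ f ∈ nb D t ∧ r ≠ 0 ∧ B r r = 0 ∧
      B (θ' x) r = 0 ∧ Is θ' f (θ' x + r) ∧ Is θ' (cj x f) (θ' x - r) ∧
      ∀ z : G, z ∈ U D x f t ↔ z ∈ nb D t ∧ B (θ' z) (θ' x) = 0 ∧ B (θ' z) r = 0 := by
  obtain ⟨θ', N⟩ := M.at_member ht.1.1
  have F := M.form
  have hxt : x ∈ nb D t := nb_symm M.hx ht.1
  have hft : f ∈ nb D t := ⟨hf.1, fun e => hf.2 (e ▸ ht.1.2.2), ht.2⟩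
  have hne : x ≠ f := fun e => hf.2 (e ▸ Commute.refl x)
  set β := B (θ' x) (θ' f) with hβ
  have hβ0 : β ≠ 0 := fun e => hf.2 ((N.pts.comm x hxt f hft hne).2 e)
  have hx1 := N.pts.norm x hxt
  have hf1 := N.pts.norm f hft
  set r := β • θ' f - θ' x with hr
  have hxr : B (θ' x) r = 0 := by
    simp only [r, map_sub, map_smul, smul_eq_mul, hx1, ← hβ]
    rw [mul_self_of_ne hβ0, sub_self]
  have hrr : B r r = 0 := by
    simp only [r, map_sub, map_smul, LinearMap.sub_apply, LinearMap.smul_apply, smul_eq_mul, hx1,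
      hf1, F.symm (θ' f) (θ' x), ← hβ]
    linear_combination (-1) * mul_self_of_ne hβ0
  have hr0 : r ≠ 0 := by
    intro e
    rw [hr, sub_eq_zero] at e
    rcases eq_or_neg hβ0 with h | h <;> rw [h] at e
    · exact hne (N.pts.inj x hxt f hft (Or.inl (by simpa using e.symm)))
    · exact hne (N.pts.inj x hxt f hft (Or.inr (by simpa using e.symm)))
  have hI : Is θ' f (θ' x + r) := by
    rw [Is, hr, add_sub_cancel]
    rcases eq_or_neg hβ0 with h | h <;> simp [h]
  refine ⟨θ', r, N, hxt, hft, hr0, hrr, hxr, hI, ?_, fun z => ?_⟩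
  · have h := N.is_cj hxt hft
    have e : ∀ y : V, B (θ' x) y = 0 → refl B (θ' x) (θ' x + y) = -(θ' x - y) := by
      intro y hy
      simp only [refl, map_add, hx1, hy]
      match_scalars <;> decide
    have e' : refl B (θ' x) (θ' f) = β • -(θ' x - r) := by
      rw [← e r hxr, ← refl_smul]
      congr 1
      rw [hr, add_sub_cancel, smul_smul, mul_self_of_ne hβ0, one_smul]
    rw [e'] at h
    rcases eq_or_neg hβ0 with q | q <;> rw [q] at h <;> rcases h with h | h
    · exact Or.inr (by simpa using h)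
    · exact Or.inl (by simpa using h)
    · exact Or.inl (by simpa using h)
    · exact Or.inr (by simpa using h)
  · rw [M.mem_U]
    constructor
    · rintro ⟨hzx, hzf, hzt, hc⟩
      have hz : z ∈ nb D t := ⟨hzx.1, hzt, hc⟩
      have h1 := (N.pts.comm z hz x hxt hzx.2.1).1 hzx.2.2.symm
      have h2 := (N.pts.comm z hz f hft fun e => hf.2 (e ▸ hzx.2.2)).1 hzf
      exact ⟨hz, h1, by simp [r, h1, h2]⟩
    · rintro ⟨hz, h1, h2⟩
      have hzx : z ≠ x := ne_of_orth N.pts hz h1
      have hzf : B (θ' z) (θ' f) = 0 := by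
        rw [Is.zero' hI, map_add, h1, h2, add_zero]
      exact ⟨⟨hz.1, hzx, (comm_of_orth N.pts hz hxt h1).symm⟩,
        comm_of_orth N.pts hz hft hzf, hz.2.1, hz.2.2⟩

theorem finrank_perp_one {a : V} : 4 ≤ Module.finrank (ZMod 3) (perp B ⊤ a) := by
  have h1 := finrank_perp (B := B) ⊤ a
  have h2 : 5 ≤ Module.finrank (ZMod 3) (⊤ : Submodule (ZMod 3) V) := by
    rw [finrank_top]; exact M.dim
  omega

theorem nd_perp_one {a : V} (h : B a a = 1) : ND B (perp B ⊤ a) :=
  M.form.nd_perp M.form.nd_top trivial (by rw [h]; exact one_ne_zero)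

/-- Two members with the same common members at `t` are equal up to `x`. -/
theorem eq_of_U {f g t : G} (hf : Far D x f) (hg : Far D x g) (hft : t ∈ T D x f)
    (hgt : t ∈ T D x g) (h : ∀ a, a ∈ U D x f t → a ∈ U D x g t) : g = f ∨ g = cj x f := by
  have F := M.form
  obtain ⟨θ', r, N, hxt, hft', hr0, hrr, hxr, hI, hI', hU⟩ := M.model hf hft
  have hgt' : g ∈ nb D t := ⟨hg.1, fun e => hg.2 (e ▸ hgt.1.2.2), hgt.2⟩
  have hx1 := N.pts.norm x hxt
  have hne : x ≠ g := fun e => hg.2 (e ▸ Commute.refl x)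
  set γ := B (θ' x) (θ' g) with hγ
  have hγ0 : γ ≠ 0 := fun e => hg.2 ((N.pts.comm x hxt g hgt' hne).2 e)
  set r' := γ • θ' g - θ' x with hr'
  have hxr' : B (θ' x) r' = 0 := by
    simp only [r', map_sub, map_smul, smul_eq_mul, hx1, ← hγ]
    rw [mul_self_of_ne hγ0, sub_self]
  have hrr' : B r' r' = 0 := by
    simp only [r', map_sub, map_smul, LinearMap.sub_apply, LinearMap.smul_apply, smul_eq_mul, hx1,
      N.pts.norm g hgt', F.symm (θ' g) (θ' x), ← hγ]
    linear_combination (-1) * mul_self_of_ne hγ0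
  have hr0' : r' ≠ 0 := by
    intro e
    rw [hr', sub_eq_zero] at e
    rcases eq_or_neg hγ0 with q | q <;> rw [q] at e
    · exact hne (N.pts.inj x hxt g hgt' (Or.inl (by simpa using e.symm)))
    · exact hne (N.pts.inj x hxt g hgt' (Or.inr (by simpa using e.symm)))
  have hu := F.isotropic_unique (N.nd_perp_one hx1) N.finrank_perp_one (X := perp B ⊤ (θ' x))
    ⟨trivial, hxr⟩ ⟨trivial, hxr'⟩ hr0 hr0' hrr hrr' fun z hz hz1 hzr => by
      obtain ⟨e, he, hez⟩ := N.pts.surj z hz1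
      have hex : B (θ' e) (θ' x) = 0 := by rw [Is.zero hez, F.symm]; exact hz.2
      have hm := h e ((hU e).2 ⟨he, hex, by rw [Is.zero hez, hzr]⟩)
      rw [M.mem_U] at hm
      have h2 := (N.pts.comm e he g hgt' fun q => hg.2 (q ▸ hm.1.2.2)).1 hm.2.1
      rw [← Is.zero (B := B) hez]
      simp [r', hex, h2]
  have hG : Is θ' g (θ' x + r') := by
    rw [Is, hr', add_sub_cancel]
    rcases eq_or_neg hγ0 with q | q <;> simp [q]
  have hfx : cj x f ∈ nb D t := N.cj_mem hxt hft'
  rcases hu with q | q <;> rw [q] at hG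
  · left
    rcases hG with a | a <;> rcases hI with b | b <;>
      exact N.pts.inj g hgt' f hft' (by rw [a, b]; simp [-neg_add_rev])
  · right
    rw [← sub_eq_add_neg] at hG
    rcases hG with a | a <;> rcases hI' with b | b <;>
      exact N.pts.inj g hgt' _ hfx (by rw [a, b]; simp [-neg_sub])

/-- Some member commutes with `x`, `f` and `t`. -/
theorem U_nonempty {f t : G} (hf : Far D x f) (ht : t ∈ T D x f) : ∃ s, s ∈ U D x f t := by
  have F := M.form
  obtain ⟨θ', r, N, hxt, -, hr0, hrr, hxr, -, -, hU⟩ := M.model hf ht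
  have hX := N.nd_perp_one (N.pts.norm x hxt)
  obtain ⟨p, hp, hpr⟩ : ∃ p ∈ perp B ⊤ (θ' x), B r p ≠ 0 := by
    by_contra hh
    push Not at hh
    exact hr0 (hX r ⟨trivial, hxr⟩ hh)
  have hd := N.finrank_perp_one (a := θ' x)
  have hd1 := finrank_perp (B := B) (perp B ⊤ (θ' x)) r
  have hd2 := finrank_perp (B := B) (perp B (perp B ⊤ (θ' x)) r) p
  obtain ⟨z, hz, hz1⟩ := F.exists_one
    (F.nd_perp_pair hX (r := r) ⟨trivial, hxr⟩ hp hrr hpr) (by omega)
  obtain ⟨e, he, hez⟩ := N.pts.surj z hz1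
  refine ⟨e, (hU e).2 ⟨he, ?_, ?_⟩⟩
  · rw [Is.zero hez, F.symm]; exact hz.1.1.2
  · rw [Is.zero hez, F.symm]; exact hz.1.2

/-- The isotropic vector of a member of `U`. -/
theorem U_point {f t s : G} (hf : Far D x f) (ht : t ∈ T D x f) (hs : s ∈ U D x f t) :
    ∃ w : V, B w w = 0 ∧ w ≠ 0 ∧ B (θ t) w = 0 ∧ B (θ s) w = 0 ∧
      (∀ u ∈ U D x f t, B (θ u) w = 0) ∧
      (∀ z ∈ nb D x, B (θ z) (θ t) = 0 → B (θ z) (θ s) = 0 → B (θ z) w = 0 →
        z ∈ U D x f t) ∧
      ∀ k : ZMod 3, ∀ z ∈ nb D x, Is θ z (θ s + k • w) → z ∈ U D x f t := by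
  have F := M.form
  obtain ⟨θ', r, N, hxt, -, hr0, hrr, hxr, -, -, hU⟩ := M.model hf ht
  obtain ⟨hst, hSx, hSr⟩ := (hU s).1 hs
  have hS1 := N.pts.norm s hst
  obtain ⟨s', hs', hI'⟩ := N.pts.surj (θ' s + r) (by
    rw [F.add_sq, hS1, hrr, hSr]; ring)
  have hs'U : s' ∈ U D x f t := by
    refine (hU s').2 ⟨hs', ?_, ?_⟩
    · rw [Is.zero hI', map_add, LinearMap.add_apply, hSx, F.symm r, hxr, add_zero]
    · rw [Is.zero hI', map_add, LinearMap.add_apply, hSr, hrr, add_zero]
  have hb' : B (θ' s) (θ' s') ≠ 0 := by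
    intro e
    rw [Is.zero' hI', map_add, hS1, hSr, add_zero] at e
    exact one_ne_zero e
  have hne : s ≠ s' := by
    intro e
    subst e
    rcases hI' with q | q
    · exact hr0 (by simpa using q.symm)
    · have e : r = θ' s := by
        rw [← sub_eq_zero] at q
        rw [← sub_eq_zero, ← q]
        have h3 : (3 : ZMod 3) • θ' s = 0 := by rw [show (3 : ZMod 3) = 0 from rfl, zero_smul]
        linear_combination (norm := module) -h3
      rw [e, hS1] at hrr
      exact one_ne_zero hrr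
  have hnc : ¬ Commute s s' := fun c => hb' ((N.pts.comm s hst s' hs' hne).1 c)
  obtain ⟨hsR, -, -, hst'⟩ := M.mem_U.1 hs
  obtain ⟨hsR', -, -, hst''⟩ := M.mem_U.1 hs'U
  set s'' := cj s s' with hs''
  have hsR'' : s'' ∈ nb D x := M.cj_mem hsR hsR'
  have hst3 : s'' ∈ nb D t := N.cj_mem hst hs'
  have hI'' : Is θ' s'' (refl B (θ' s) (θ' s + r)) := by
    have h := N.is_cj hst hs'
    rcases hI' with q | q <;> rw [q] at h
    · exact h
    · rw [refl, map_neg, neg_smul, ← neg_add] at h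
      rcases h with h | h
      · exact Or.inr h
      · exact Or.inl (by rw [h, neg_neg]; rfl)
  have hs''U : s'' ∈ U D x f t := by
    refine (hU s'').2 ⟨hst3, ?_, ?_⟩
    · rw [Is.zero hI'']
      simp [refl, hSx, F.symm r (θ' x), hxr]
    · rw [Is.zero hI'']
      simp [refl, hSr, hrr]
  set β := B (θ s) (θ s') with hβ
  have hβ0 : β ≠ 0 := fun e => hnc ((M.pts.comm s hsR s' hsR' hne).2 e)
  have h1 := M.pts.norm s hsR
  have h1' := M.pts.norm s' hsR'
  set w := θ s' - β • θ s with hw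
  have hI3 : Is θ s'' (θ s' + β • θ s) := M.is_cj hsR hsR'
  have hts : B (θ t) (θ s) = 0 := (M.pts.comm t ht.1 s hsR (fun e => hst.2.1 e.symm)).1 hst'
  have hts' : B (θ t) (θ s') = 0 := (M.pts.comm t ht.1 s' hsR' (fun e => hs'.2.1 e.symm)).1 hst''
  have hsw : B (θ s) w = 0 := by
    simp [w, ← hβ, h1]
  have hww : B w w = 0 := by
    simp only [w, map_sub, map_smul, LinearMap.sub_apply, LinearMap.smul_apply, smul_eq_mul, h1,
      h1', F.symm (θ s') (θ s), ← hβ]
    linear_combination (-1) * mul_self_of_ne hβ0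
  refine ⟨w, hww, ?_, by simp [w, hts, hts'], hsw, fun u hu => ?_, fun z hz z1 z2 z3 => ?_, ?_⟩
  · intro e
    rw [hw, sub_eq_zero] at e
    rcases eq_or_neg hβ0 with q | q <;> rw [q] at e
    · exact hne (M.pts.inj s hsR s' hsR' (Or.inl (by simpa using e.symm)))
    · exact hne (M.pts.inj s hsR s' hsR' (Or.inr (by rw [e]; simp)))
  · obtain ⟨hut, -, hur⟩ := (hU u).1 hu
    obtain ⟨huR, -, -, -⟩ := M.mem_U.1 hu
    by_cases e1 : u = s
    · rw [e1, hsw]
    by_cases e2 : u = s'
    · rw [e2]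
      simp only [w, map_sub, map_smul, smul_eq_mul, h1', F.symm (θ s') (θ s), ← hβ]
      rw [mul_self_of_ne hβ0, sub_self]
    by_cases e3 : u = s''
    · rw [e3, Is.zero hI3]
      simp only [w, map_sub, map_smul, map_add, LinearMap.add_apply, LinearMap.smul_apply,
        smul_eq_mul, h1, h1', F.symm (θ s') (θ s), ← hβ]
      ring_nf
      linear_combination (-1) * mul_self_of_ne hβ0
    have g2 : B (θ' u) (θ' s') = 0 ↔ B (θ' u) (θ' s) = 0 := by
      rw [Is.zero' hI', map_add, hur, add_zero]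
    have g3 : B (θ' u) (θ' s'') = 0 ↔ B (θ' u) (θ' s) = 0 := by
      rw [Is.zero' hI'', refl, map_add, map_add, map_smul, hur, map_add, hS1, hSr, add_zero,
        add_zero, smul_eq_mul, one_mul, show ∀ a : ZMod 3, a + a = 0 ↔ a = 0 by decide]
    have k1 := (M.pts.comm u huR s hsR e1).symm.trans (N.pts.comm u hut s hst e1)
    have k2 := (M.pts.comm u huR s' hsR' e2).symm.trans (N.pts.comm u hut s' hs' e2)
    have k3 := (M.pts.comm u huR s'' hsR'' e3).symm.trans (N.pts.comm u hut s'' hst3 e3)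
    rw [g2, ← k1] at k2
    rw [g3, ← k1, Is.zero' hI3] at k3
    simp only [w, map_sub, map_smul, smul_eq_mul]
    simp only [map_add, map_smul, smul_eq_mul] at k3
    revert k2 k3 hβ0
    generalize B (θ u) (θ s) = a; generalize B (θ u) (θ s') = b; generalize β = c
    revert a b c; decide
  · have z4 : B (θ z) (θ s') = 0 := by
      have h : θ s' = w + β • θ s := by rw [hw, sub_add_cancel]
      rw [h]; simp [z2, z3]
    have hzt : z ≠ t := ne_of_orth M.pts hz z1
    have hz' : z ∈ nb D t := ⟨hz.1, hzt, (comm_of_orth M.pts hz ht.1 z1).symm⟩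
    have k1 := (N.pts.comm z hz' x hxt hz.2.1).1 hz.2.2.symm
    have k2 := (N.pts.comm z hz' s hst (ne_of_orth M.pts hz z2)).1
      (comm_of_orth M.pts hz hsR z2)
    have k3 := (N.pts.comm z hz' s' hs' (ne_of_orth M.pts hz z4)).1
      (comm_of_orth M.pts hz hsR' z4)
    rw [Is.zero' hI', map_add, k2, zero_add] at k3
    exact (hU z).2 ⟨hz', k1, k3⟩
  · intro k z hz hI4
    have hk : k = 0 ∨ k = β ∨ k = -β :=
      (by decide : ∀ a c : ZMod 3, c ≠ 0 → a = 0 ∨ a = c ∨ a = -c) k β hβ0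
    have same : ∀ a ∈ nb D x, Is θ a (θ s + k • w) → a = z := fun a ha h => by
      rcases h with h | h <;> rcases hI4 with h' | h' <;>
        exact M.pts.inj a ha z hz (by rw [h, h']; simp [-neg_add_rev])
    rcases hk with q | q | q
    · rw [← same s hsR (by rw [q, zero_smul, add_zero]; exact Is.self θ s)]
      exact hs
    · have e : θ s + k • w = β • θ s' := by
        rw [q, hw, smul_sub, smul_smul, mul_self_of_ne hβ0, one_smul, add_sub_cancel]
      rw [← same s' hsR' (by rw [e]; rcases eq_or_neg hβ0 with h | h <;> simp [Is, h])]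
      exact hs'U
    · have e : θ s + k • w = (-β) • (θ s' + β • θ s) := by
        rw [q, hw, smul_sub, smul_smul, smul_add, smul_smul, neg_mul, mul_self_of_ne hβ0]
        match_scalars <;> first | decide | ring
      rw [← same s'' hsR'' (by
        rw [e]
        rcases eq_or_neg hβ0 with h | h <;> rcases hI3 with h' | h' <;> simp [Is, h, h', add_comm])]
      exact hs''U

end Setup

end Cfsg.Agent.H24.TTOrth
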