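import Cfsg.Agent.H24.TTOrth.Sign

/-!
A residue with the commuting graph of the norm one points of a space over the field with three
elements: the class is that of the space with one more dimension.
-/

set_option autoImplicit false
set_option linter.unusedSectionVars false

namespace Cfsg.Agent.H24.TTOrth

open Cfsg
open H76.LocallyS3 (nb cj cj_cj cj_injective commute_cj_iff)
open H80.TTQuad (Cls cj_one cj_inv_cj cj_cj_inv cj_eq_of_commute nb_symm)

universe u v

variable {G : Type u} [Group G] {V : Type v} [AddCommGroup V] [Module (ZMod 3) V] [Finite V]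
  {D : Set G} {x : G} {B : V →ₗ[ZMod 3] V →ₗ[ZMod 3] ZMod 3} {θ : G → V}

namespace Wts

variable {w : G → V} (W : Wts D x B θ w)
include W

/-- Some member not commuting with `x` has a given isotropic vector. -/
theorem exists_w [Finite G] {v : V} (hv : B v v = 0) (hne : v ≠ 0) :
    ∃ g, Far D x g ∧ (w g = v ∨ w g = -v) := by
  have F := W.form
  obtain ⟨f, hfD, hfx⟩ := W.cls.exists_noncommute W.hx
  have hf : Far D x f := ⟨hfD, hfx⟩
  by_cases hfv : B (w f) v ≠ 0
  · obtain ⟨p, hp, -, e⟩ := W.bridge hf hv hfv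
    exact ⟨_, translate_far W.cls hf.1 hf.2 hp, e⟩
  rw [not_not] at hfv
  obtain ⟨h0, h1, -⟩ := W.hasW f hf
  obtain ⟨u, hu, hu1, hu2, -⟩ := F.exists_isotropic_three h1 hne hne h0 hfv hfv
  obtain ⟨p, hp, -, e⟩ := W.bridge hf hu (by rwa [F.symm])
  have hg : Far D x (cj x (cj p f)) := translate_far W.cls hf.1 hf.2 hp
  obtain ⟨p', hp', -, e'⟩ := W.bridge hg hv (by rcases e with e | e <;> simpa [e] using hu2)
  exact ⟨_, translate_far W.cls hg.1 hg.2 hp', e'⟩

/-- The product through a member not orthogonal to both does not depend on it, one step. -/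
theorem step {a c h k : G} (ha : Far D x a) (hc : Far D x c) (hh : Far D x h) (hk : Far D x k)
    (h1 : B (w a) (w h) ≠ 0) (h2 : B (w h) (w c) ≠ 0) (h3 : B (w a) (w k) ≠ 0)
    (h4 : B (w k) (w c) ≠ 0) (h5 : B (w h) (w k) ≠ 0) :
    eps B w a h * eps B w h c = eps B w a k * eps B w k c := by
  have t1 := W.tri ha hh hk h1 h3 h5
  have t2 := W.tri hh hk hc h5 h2 h4
  revert t1 t2
  have := W.eps_ne h1
  revert this
  generalize eps B w a h = a1; generalize eps B w a k = a2; generalize eps B w h k = a3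
  generalize eps B w h c = a4; generalize eps B w k c = a5
  revert a1 a2 a3 a4 a5; decide

/-- The product through a member not orthogonal to two orthogonal ones. -/
theorem const [Finite G] {a c h k : G} (ha : Far D x a) (hc : Far D x c)
    (hac : B (w a) (w c) = 0) (hh : Far D x h) (hk : Far D x k)
    (h1 : B (w a) (w h) ≠ 0) (h2 : B (w h) (w c) ≠ 0) (h3 : B (w a) (w k) ≠ 0)
    (h4 : B (w k) (w c) ≠ 0) : eps B w a h * eps B w h c = eps B w a k * eps B w k c := by
  have F := W.form
  by_cases h5 : B (w h) (w k) ≠ 0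
  · exact W.step ha hc hh hk h1 h2 h3 h4 h5
  rw [not_not] at h5
  obtain ⟨a0, hane, -⟩ := W.hasW a ha
  have hc0 := (W.hasW c hc).1
  have hh0 := (W.hasW h hh).1
  have hk0 := (W.hasW k hk).1
  set α := B (w a) (w h) with hα
  set α' := B (w a) (w k) with hα'
  set u := α • w h with hu
  set u' := α' • w k with hu'
  have u0 : B u u = 0 := by simp [u, hh0]
  have u0' : B u' u' = 0 := by simp [u', hk0]
  have ua : B u (w a) = 1 := by
    simp only [u, map_smul, LinearMap.smul_apply, smul_eq_mul, F.symm (w h), ← hα]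
    exact mul_self_of_ne h1
  have ua' : B u' (w a) = 1 := by
    simp only [u', map_smul, LinearMap.smul_apply, smul_eq_mul, F.symm (w k), ← hα']
    exact mul_self_of_ne h3
  have uc : B u (w c) ≠ 0 := by simp [u, h1, h2]
  have uc' : B u' (w c) ≠ 0 := by simp [u', h3, h4]
  have uu : B u u' = 0 := by simp [u, u', h5]
  have hdim := W.dim
  have pick : ∀ v : V, B v v = 0 → B v (w a) = 1 → B v (w c) ≠ 0 → ∃ m, Far D x m ∧
      B (w a) (w m) ≠ 0 ∧ B (w m) (w c) ≠ 0 ∧ (w m = v ∨ w m = -v) := by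
    intro v v0 va vc
    obtain ⟨m, hm, e⟩ := W.exists_w v0 fun q => by simp [q] at va
    refine ⟨m, hm, ?_, ?_, e⟩
    · rcases e with e | e <;> simp [e, F.symm (w a) v, va]
    · rcases e with e | e <;> simpa [e] using vc
  by_cases hcc : B u' (w c) = B u (w c)
  · obtain ⟨v, v0, va, vc, vu, vu'⟩ := F.path_same hdim hane a0 hc0 hac u0 ua ua' uu
    obtain ⟨m, hm, m1, m2, e⟩ := pick v v0 va (by rw [vc]; exact uc)
    refine (W.step ha hc hh hm h1 h2 m1 m2 ?_).trans (W.step ha hc hm hk m1 m2 h3 h4 ?_)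
    · rcases e with e | e <;> simpa [u, e, h1] using vu
    · rcases e with e | e <;> simpa [u', e, h3, F.symm v (w k)] using vu'
  obtain ⟨v, v0, va, vc, vu⟩ := F.path_diff a0 hc0 hac u0 u0' ua ua' uu hcc
  obtain ⟨m, hm, m1, m2, e⟩ := pick v v0 va (by rw [vc]; exact uc')
  have hhm : B (w h) (w m) ≠ 0 := by rcases e with e | e <;> simpa [u, e, h1] using vu
  refine (W.step ha hc hh hm h1 h2 m1 m2 hhm).trans ?_
  by_cases vu' : B v u' ≠ 0
  · exact W.step ha hc hm hk m1 m2 h3 h4
      (by rcases e with e | e <;> simpa [u', e, h3] using vu')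
  rw [not_not] at vu'
  obtain ⟨v', v0', va', vc', vv, vv'⟩ := F.path_same hdim hane a0 hc0 hac v0 va ua' vu'
  obtain ⟨m', hm', m1', m2', e'⟩ := pick v' v0' va' (by rw [vc', vc]; exact uc')
  refine (W.step ha hc hm hm' m1 m2 m1' m2' ?_).trans (W.step ha hc hm' hk m1' m2' h3 h4 ?_)
  · rcases e with e | e <;> rcases e' with e' | e' <;> simpa [e, e'] using vv
  · rcases e' with e' | e' <;> simpa [u', e', h3, F.symm v' (w k)] using vv'

theorem exists_three_far [Finite G] {a b c : G} (ha : Far D x a) (hb : Far D x b) (hc : Far D x c)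
    (hab : B (w a) (w b) = 0) (hac : B (w a) (w c) = 0) :
    ∃ h, Far D x h ∧ B (w a) (w h) ≠ 0 ∧ B (w h) (w b) ≠ 0 ∧ B (w h) (w c) ≠ 0 := by
  have F := W.form
  obtain ⟨u, u0, u1, u2, u3⟩ := F.exists_isotropic_three (W.hasW a ha).2.1 (W.hasW b hb).2.1
    (W.hasW c hc).2.1 (W.hasW a ha).1 hab hac
  obtain ⟨h, hh, e⟩ := W.exists_w u0 fun q => by simp [q] at u1
  exact ⟨h, hh, by rcases e with e | e <;> simpa [e, F.symm (w a) u] using u1,
    by rcases e with e | e <;> simpa [e] using u2, by rcases e with e | e <;> simpa [e] using u3⟩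

/-- Signs for all members not commuting with `x`. -/
theorem exists_sign [Finite G] : ∃ s : G → ZMod 3, (∀ f, Far D x f → s f ≠ 0) ∧
    (∀ f g, Far D x f → Far D x g → B (w f) (w g) ≠ 0 → s f * s g = eps B w f g) ∧
    ∀ g, Far D x g → s (cj x g) • w (cj x g) = -(s g • w g) := by
  classical
  have F := W.form
  obtain ⟨o, hoD, hox⟩ := W.cls.exists_noncommute W.hx
  have ho : Far D x o := ⟨hoD, hox⟩
  choose H hH using fun g : G => fun hg : Far D x g ∧ B (w o) (w g) = 0 =>
    W.exists_three_far ho hg.1 hg.1 hg.2 hg.2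
  let s : G → ZMod 3 := fun g =>
    if hg : Far D x g ∧ B (w o) (w g) = 0 then eps B w o (H g hg) * eps B w (H g hg) g
    else eps B w o g
  have sAdj : ∀ g, B (w o) (w g) ≠ 0 → s g = eps B w o g := fun g h => dif_neg fun q => h q.2
  have sOrth : ∀ g, Far D x g → B (w o) (w g) = 0 → ∀ h, Far D x h → B (w o) (w h) ≠ 0 →
      B (w h) (w g) ≠ 0 → s g = eps B w o h * eps B w h g := by
    intro g hg hg0 h hh h1 h2
    obtain ⟨a1, a2, a3, -⟩ := hH g ⟨hg, hg0⟩
    show (dite _ _ _) = _
    rw [dif_pos ⟨hg, hg0⟩]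
    exact W.const ho hg hg0 a1 hh a2 a3 h1 h2
  have hs : ∀ f, Far D x f → s f ≠ 0 := by
    intro f hf
    by_cases h : B (w o) (w f) = 0
    · obtain ⟨a1, a2, a3, -⟩ := hH f ⟨hf, h⟩
      rw [sOrth f hf h _ a1 a2 a3]
      exact mul_ne_zero (W.eps_ne a2) (W.eps_ne a3)
    · rw [sAdj f h]; exact W.eps_ne h
  refine ⟨s, hs, fun f g hf hg hfg => ?_, fun g hg => ?_⟩
  · by_cases h1 : B (w o) (w f) = 0
    · by_cases h2 : B (w o) (w g) = 0
      · obtain ⟨h, hh, a1, a2, a3⟩ := W.exists_three_far ho hf hg h1 h2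
        have t := W.tri hh hf hg a2 a3 hfg
        rw [sOrth f hf h1 h hh a1 a2, sOrth g hg h2 h hh a1 a3]
        linear_combination (eps B w h f * eps B w h g) * mul_self_of_ne (W.eps_ne a1) +
          eps B w f g * t - (eps B w h f * eps B w h g) * mul_self_of_ne (W.eps_ne hfg)
      · have hgf : B (w g) (w f) ≠ 0 := by rwa [F.symm]
        rw [sOrth f hf h1 g hg h2 hgf, sAdj g h2, W.eps_symm g f]
        linear_combination eps B w f g * mul_self_of_ne (W.eps_ne h2)
    · by_cases h2 : B (w o) (w g) = 0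
      · rw [sAdj f h1, sOrth g hg h2 f hf h1 hfg]
        linear_combination eps B w f g * mul_self_of_ne (W.eps_ne h1)
      · have t := W.tri ho hf hg h1 h2 hfg
        rw [sAdj f h1, sAdj g h2]
        linear_combination eps B w f g * t -
          (eps B w o f * eps B w o g) * mul_self_of_ne (W.eps_ne hfg)
  obtain ⟨σ, hσ, e⟩ := W.exists_sigma hg
  have hg' := W.far_flip hg
  have key : s (cj x g) = -σ * s g := by
    by_cases h : B (w o) (w g) = 0
    · obtain ⟨a1, a2, a3, -⟩ := hH g ⟨hg, h⟩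
      rw [sOrth g hg h _ a1 a2 a3,
        sOrth (cj x g) hg' (by rw [e, map_smul, h, smul_zero]) _ a1 a2
          (by rw [e, map_smul]; exact mul_ne_zero hσ a3),
        W.eps_flip a1 hg a3 e]
      ring
    · rw [sAdj g h, sAdj (cj x g) (by rw [e, map_smul]; exact mul_ne_zero hσ h),
        W.eps_flip ho hg h e]
  rw [key, e, smul_smul, ← neg_smul]
  congr 1
  linear_combination (-s g) * mul_self_of_ne hσ

end Wts

/-- The residue determines the class. -/
theorem residue_orth [Finite G] (H : Cls D) (hconn : (Cfsg.commutingGraph D).Connected)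
    (hx : x ∈ D) (F : Form B) (hn : 5 ≤ Module.finrank (ZMod 3) V) (P : Pts (nb D x) B θ) :
    ∃ Θ : G → V × ZMod 3, Pts D (ext B) Θ := by
  classical
  let M : Setup D x B θ := ⟨H, hx, F, hn, P⟩
  choose w0 hw0 using fun f : G => fun hf : Far D x f => M.exists_hasW hconn hf
  let w : G → V := fun f => if hf : Far D x f then w0 f hf else 0
  have W : Wts D x B θ w := ⟨M, hconn, fun f hf => by
    show HasW D x B θ f (dite _ _ _)
    rw [dif_pos hf]; exact hw0 f hf⟩
  obtain ⟨s, hs, hss, hflip⟩ := W.exists_sign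
  let Θ : G → V × ZMod 3 := fun a =>
    if a = x then (0, 1) else if Commute x a then (θ a, 0) else (s a • w a, 1)
  have cases3 : ∀ a ∈ D, (a = x ∧ Θ a = (0, 1)) ∨ (a ∈ nb D x ∧ Θ a = (θ a, 0)) ∨
      (Far D x a ∧ Θ a = (s a • w a, 1)) := by
    intro a ha
    by_cases h1 : a = x
    · exact Or.inl ⟨h1, if_pos h1⟩
    by_cases h2 : Commute x a
    · exact Or.inr (Or.inl ⟨⟨ha, h1, h2⟩, (if_neg h1).trans (if_pos h2)⟩)
    · exact Or.inr (Or.inr ⟨⟨ha, h2⟩, (if_neg h1).trans (if_neg h2)⟩)
  have tx : Θ x = (0, 1) := if_pos rfl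
  have tR : ∀ a ∈ nb D x, Θ a = (θ a, 0) := fun a ha =>
    (if_neg ha.2.1).trans (if_pos ha.2.2)
  have tF : ∀ a, Far D x a → Θ a = (s a • w a, 1) := fun a ha =>
    (if_neg fun e => ha.2 (by rw [e])).trans (if_neg ha.2)
  refine ⟨Θ, fun a ha => ?_, fun a ha b hb h => ?_, fun v hv => ?_, fun a ha b hb hab => ?_⟩
  · rcases cases3 a ha with ⟨-, e⟩ | ⟨h, e⟩ | ⟨h, e⟩ <;> rw [e, ext_apply]
    · simp
    · simp [P.norm a h]
    · simp [(W.hasW a h).1]
  · rcases cases3 a ha with ⟨qa, ea⟩ | ⟨h1, ea⟩ | ⟨h1, ea⟩ <;>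
      rcases cases3 b hb with ⟨qb, eb⟩ | ⟨h2, eb⟩ | ⟨h2, eb⟩ <;>
      rw [ea, eb] at h <;> simp only [Prod.neg_mk, Prod.mk.injEq, neg_zero] at h <;>
      (try subst qa) <;> (try subst qb)
    · rfl
    · simp at h
    · simp [hs _ h2, (W.hasW b h2).2.1, eq_comm (a := (0 : V))] at h
    · simp at h
    · exact P.inj a h1 b h2 (h.imp And.left And.left)
    · simp at h
    · simp [hs _ h1, (W.hasW a h1).2.1] at h
    · simp at h
    · have hv : s a • w a = s b • w b := by
        rcases h with ⟨q, -⟩ | ⟨-, q⟩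
        · exact q
        · exact absurd q (by decide)
      have hb' : w a = w b ∨ w a = -w b := by
        rcases eq_or_neg (hs a h1) with r | r <;> rcases eq_or_neg (hs b h2) with r' | r' <;>
          simp [r, r', neg_eq_iff_eq_neg] at hv <;> simp [hv]
      rcases W.eq_of_w h2 h1 hb' with r | r
      · exact r
      · exfalso
        rw [r, hflip b h2, ← sub_eq_zero] at hv
        have h3 : (3 : ZMod 3) • (s b • w b) = 0 := by rw [three_zero, zero_smul]
        have : s b • w b = 0 := by linear_combination (norm := module) hv + h3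
        exact smul_ne_zero (hs b h2) (W.hasW b h2).2.1 this
  · rw [ext_apply] at hv
    by_cases ht : v.2 = 0
    · obtain ⟨a, ha, e⟩ := P.surj v.1 (by simpa [ht] using hv)
      refine ⟨a, ha.1, ?_⟩
      rw [tR a ha]
      rcases e with e | e
      · exact Or.inl (Prod.ext e ht.symm)
      · exact Or.inr (Prod.ext e (by simp [ht]))
    have hv0 : B v.1 v.1 = 0 := by linear_combination hv - mul_self_of_ne ht
    have hfin : ∀ a ∈ D, Θ a = (v.2 • v.1, 1) → ∃ a ∈ D, Θ a = v ∨ Θ a = -v := by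
      intro a ha e
      refine ⟨a, ha, ?_⟩
      rw [e]
      rcases eq_or_neg ht with r | r
      · exact Or.inl (Prod.ext (by rw [r, one_smul]) r.symm)
      · exact Or.inr (Prod.ext (by rw [r, neg_one_smul]; rfl)
          (by rw [Prod.snd_neg, r, neg_neg]))
    by_cases h0 : v.1 = 0
    · exact hfin x hx (by rw [tx, h0, smul_zero])
    obtain ⟨g, hg, e⟩ := W.exists_w hv0 h0
    have hpm : s g • w g = v.2 • v.1 ∨ s g • w g = -(v.2 • v.1) := by
      rcases e with e | e <;> rw [e] <;> rcases eq_or_neg (hs g hg) with r | r <;>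
        rcases eq_or_neg ht with r' | r' <;> rw [r, r'] <;> simp
    rcases hpm with q | q
    · exact hfin g hg.1 (by rw [tF g hg, q])
    · have hg' := W.far_flip hg
      exact hfin _ hg'.1 (by rw [tF _ hg', hflip g hg, q, neg_neg])
  · have far_far : ∀ a b, Far D x a → Far D x b → a ≠ b →
        (Commute a b ↔ B (s a • w a) (s b • w b) + 1 * 1 = 0) := by
      intro a b ha hb hab
      simp only [map_smul, LinearMap.smul_apply, smul_eq_mul, mul_one]
      by_cases h : B (w a) (w b) = 0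
      · rw [h]
        simp [W.orth_imp ha hb hab.symm h]
      have e := hss a b ha hb h
      have e2 : s a * (s b * B (w a) (w b)) + 1 = eps B w a b * B (w a) (w b) + 1 := by
        rw [← e]; ring
      rw [mul_left_comm (s b) (s a), e2]
      unfold eps
      by_cases hc : Commute a b
      · rw [if_pos hc, neg_mul, mul_self_of_ne h]
        exact iff_of_true hc (by decide)
      · rw [if_neg hc, mul_self_of_ne h]
        exact iff_of_false hc (by decide)
    rcases cases3 a ha with ⟨qa, ea⟩ | ⟨h1, ea⟩ | ⟨h1, ea⟩ <;>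
      rcases cases3 b hb with ⟨qb, eb⟩ | ⟨h2, eb⟩ | ⟨h2, eb⟩ <;>
      rw [ea, eb, ext_apply] <;> (try subst qa) <;> (try subst qb)
    · exact absurd rfl hab
    · simp [h2.2.2]
    · simp [h2.2]
    · simp [h1.2.2.symm]
    · simpa using P.comm a h1 b h2 hab
    · have hT := (W.hasW b h2).2.2 a h1
      simp [← hT, T, h1, hs b h2]
    · simpa using fun q : Commute a b => h1.2 q.symm
    · have hT := (W.hasW a h1).2.2 b h2
      simp [F.symm (w a) (θ b), ← hT, T, h2, hs a h1]
      exact ⟨Commute.symm, Commute.symm⟩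
    · exact far_far a b h1 h2 hab

end Cfsg.Agent.H24.TTOrth
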