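import Cfsg.Agent.H24.TTOrth.Global

/-!
The signs of the isotropic vectors of the members not commuting with `x`.
-/

set_option autoImplicit false
set_option linter.unusedSectionVars false

namespace Cfsg.Agent.H24.TTOrth

open Cfsg
open H76.LocallyS3 (nb cj cj_cj cj_injective commute_cj_iff)
open H80.TTQuad (Cls cj_one cj_inv_cj cj_cj_inv cj_eq_of_commute nb_symm)

universe u v

variable {G : Type u} [Group G] {V : Type v} [AddCommGroup V] [Module (ZMod 3) V] [Finite V]
  {D : Set G} {x : G} {B : V →ₗ[ZMod 3] V →ₗ[ZMod 3] ZMod 3} {θ : G → V}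

theorem three_zero : (3 : ZMod 3) = 0 := rfl

/-- All members not commuting with `x` with their isotropic vectors. -/
structure Wts (D : Set G) (x : G) (B : V →ₗ[ZMod 3] V →ₗ[ZMod 3] ZMod 3) (θ : G → V)
    (w : G → V) : Prop extends Setup D x B θ where
  conn : (Cfsg.commutingGraph D).Connected
  hasW : ∀ f, Far D x f → HasW D x B θ f (w f)

open Classical in
/-- The product of the wanted signs of two members. -/
noncomputable def eps (B : V →ₗ[ZMod 3] V →ₗ[ZMod 3] ZMod 3) (w : G → V) (f g : G) : ZMod 3 :=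
  if Commute f g then -B (w f) (w g) else B (w f) (w g)

namespace Wts

variable {w : G → V} (W : Wts D x B θ w)
include W

theorem far_flip {f : G} (hf : Far D x f) : Far D x (cj x f) := far_cj_x W.cls W.hx hf.1 hf.2

theorem hasW_unique {f : G} (hf : Far D x f) {v : V} (hv : HasW D x B θ f v) :
    w f = v ∨ w f = -v := by
  obtain ⟨h0, h1, h2⟩ := W.hasW f hf
  have hd : 4 ≤ Module.finrank (ZMod 3) (⊤ : Submodule (ZMod 3) V) := by
    rw [finrank_top]; have := W.dim; omega
  refine W.form.isotropic_unique W.form.nd_top hd trivial trivial hv.2.1 h1 hv.1 h0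
    fun z _ hz1 hzv => ?_
  obtain ⟨e, he, hez⟩ := W.pts.surj z hz1
  have := (h2 e he).1 ((hv.2.2 e he).2 (by rw [Is.zero hez]; exact hzv))
  rwa [Is.zero hez] at this

theorem hasW_translate {f p : G} (hf : Far D x f) (hp : p ∈ nb D x) :
    HasW D x B θ (cj x (cj p f)) (refl B (θ p) (w f)) := by
  have F := W.form
  have hp1 := W.pts.norm p hp
  obtain ⟨h0, h1, h2⟩ := W.hasW f hf
  refine ⟨by rw [F.refl_refl' hp1]; exact h0, F.refl_ne_zero hp1 h1, fun z hz => ?_⟩
  rw [mem_T_translate W.cls hp, h2 _ (W.cj_mem hp hz), Is.zero (W.is_cj hp hz), F.refl_adj hp1]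

theorem w_flip {f : G} (hf : Far D x f) : w (cj x f) = w f ∨ w (cj x f) = -w f := by
  obtain ⟨h0, h1, h2⟩ := W.hasW f hf
  exact W.hasW_unique (W.far_flip hf) ⟨h0, h1, fun z hz => by rw [mem_T_cj_x W.cls, h2 z hz]⟩

theorem eq_of_w {f g : G} (hf : Far D x f) (hg : Far D x g) (h : w g = w f ∨ w g = -w f) :
    g = f ∨ g = cj x f := by
  have hiff : ∀ a, a ∈ T D x g ↔ a ∈ T D x f := fun a => by
    by_cases ha : a ∈ nb D x
    · rw [(W.hasW g hg).2.2 a ha, (W.hasW f hf).2.2 a ha]
      rcases h with e | e <;> simp [e]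
    · exact ⟨fun q => absurd q.1 ha, fun q => absurd q.1 ha⟩
  obtain ⟨t, ht⟩ := W.T_nonempty W.conn hf
  exact W.eq_of_U hf hg ht ((hiff t).2 ht) fun a ha => ⟨(hiff a).2 ha.1, ha.2⟩

/-- The translate of `f` along the line through two isotropic vectors. -/
theorem bridge {f : G} (hf : Far D x f) {v : V} (hv : B v v = 0) (hfv : B (w f) v ≠ 0) :
    ∃ p ∈ nb D x, ¬ Commute p f ∧
      (w (cj x (cj p f)) = v ∨ w (cj x (cj p f)) = -v) := by
  have F := W.form
  obtain ⟨h0, -, h2⟩ := W.hasW f hf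
  set c := B (w f) v with hc
  obtain ⟨p, hp, hI⟩ := W.pts.surj (w f + (2 * c) • v) (by
    rw [F.shift, h0, hv, ← hc]
    linear_combination (4 : ZMod 3) * mul_self_of_ne hfv + three_zero)
  have hpf : ¬ Commute p f := fun q => by
    have := (h2 p hp).1 ⟨hp, q⟩
    rw [Is.zero hI, map_add, LinearMap.add_apply, h0, map_smul, LinearMap.smul_apply, smul_eq_mul,
      F.symm v, ← hc, zero_add, mul_assoc, mul_self_of_ne hfv] at this
    exact absurd this (by decide)
  refine ⟨p, hp, hpf, ?_⟩
  have e : refl B (θ p) (w f) = c • v := by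
    rw [Is.refl_eq hI, refl, map_add, LinearMap.add_apply, h0, map_smul, LinearMap.smul_apply,
      smul_eq_mul, F.symm v, ← hc, zero_add, mul_assoc, mul_self_of_ne hfv, mul_one, smul_add,
      ← add_assoc]
    match_scalars
    · rw [show (1 : ZMod 3) + 2 * 1 = 0 from rfl]
    · linear_combination c * three_zero
  have hg : Far D x (cj x (cj p f)) := translate_far W.cls hf.1 hf.2 hp
  rcases W.hasW_unique hg (W.hasW_translate hf hp) with q | q <;> rw [e] at q <;>
    rcases eq_or_neg hfv with r | r <;> rw [r] at q <;> simp at q <;>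
    first
      | exact Or.inl q
      | exact Or.inr q

theorem orth_imp {f g : G} (hf : Far D x f) (hg : Far D x g) (hne : g ≠ f)
    (h : B (w f) (w g) = 0) : ¬ Commute f g := by
  intro c
  obtain ⟨p, hp, hpf, e⟩ := translate_exists W.cls W.hx hf.1 hf.2 hg.1 hg.2 c hne
  have hb : B (θ p) (w f) ≠ 0 := fun q => hpf (((W.hasW f hf).2.2 p hp).2 q).2
  have hgw : HasW D x B θ g (refl B (θ p) (w f)) := e ▸ W.hasW_translate hf hp
  have key : B (w f) (refl B (θ p) (w f)) ≠ 0 := by
    rw [refl, map_add, (W.hasW f hf).1, map_smul, smul_eq_mul, zero_add, W.form.symm (w f) (θ p),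
      mul_self_of_ne hb]
    exact one_ne_zero
  rcases W.hasW_unique hg hgw with q | q <;> rw [q] at h
  · exact key h
  · exact key (by simpa using h)

/-- Exactly one of two partners commutes with a member when the vectors are not orthogonal. -/
theorem exactly_one {f g : G} (hf : Far D x f) (hg : Far D x g) (h : B (w f) (w g) ≠ 0) :
    Commute f g ↔ ¬ Commute f (cj x g) := by
  obtain ⟨p, hp, hpf, e⟩ := W.bridge hf (W.hasW g hg).1 h
  have h1 := commute_translate W.cls W.hx hf.1 hf.2 hp hpf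
  have h2 : ¬ Commute f (cj p f) := by
    rw [W.cls.braid hp.1 hf.1 hpf]
    exact (W.cls.not_commute_cj hf.1 hp.1 fun q => hpf q.symm).2
  rcases W.eq_of_w hg (translate_far W.cls hf.1 hf.2 hp) e with q | q
  · rw [← q, W.cls.cj_invol W.hx]
    exact iff_of_true h1 h2
  · have q' : g = cj p f := by
      have := congrArg (cj x) q
      rwa [W.cls.cj_invol W.hx, W.cls.cj_invol W.hx, eq_comm] at this
    rw [q']
    exact iff_of_false h2 (not_not.2 h1)

theorem eps_symm (f g : G) : eps B w f g = eps B w g f := by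
  rw [eps, eps, W.form.symm (w g) (w f)]
  by_cases h : Commute f g
  · rw [if_pos h, if_pos h.symm]
  · rw [if_neg h, if_neg fun q => h q.symm]

theorem eps_ne {f g : G} (h : B (w f) (w g) ≠ 0) : eps B w f g ≠ 0 := by
  unfold eps
  split <;> simpa

theorem eps_flip {f g : G} (hf : Far D x f) (hg : Far D x g) (h : B (w f) (w g) ≠ 0) {σ : ZMod 3}
    (hσ : w (cj x g) = σ • w g) : eps B w f (cj x g) = -σ * eps B w f g := by
  rw [eps, eps, hσ, map_smul, smul_eq_mul]
  by_cases hc : Commute f g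
  · rw [if_pos hc, if_neg ((W.exactly_one hf hg h).1 hc)]; ring
  · rw [if_neg hc, if_pos (not_not.1 fun q => hc ((W.exactly_one hf hg h).2 q))]; ring

theorem exists_sigma {g : G} (hg : Far D x g) :
    ∃ σ : ZMod 3, σ ≠ 0 ∧ w (cj x g) = σ • w g := by
  rcases W.w_flip hg with e | e
  · exact ⟨1, one_ne_zero, by rw [one_smul, e]⟩
  · exact ⟨-1, by decide, by rw [neg_one_smul, e]⟩

theorem tri_aux {a b c : G} (ha : Far D x a) (hb : Far D x b) (hc : Far D x c)
    (hab : Commute a b) (hac : Commute a c) (h1 : B (w a) (w b) ≠ 0) (h2 : B (w a) (w c) ≠ 0)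
    (h3 : B (w b) (w c) ≠ 0) : eps B w a b * eps B w a c * eps B w b c = 1 := by
  have F := W.form
  obtain ⟨h0, -, hT⟩ := W.hasW a ha
  have hba : b ≠ a := fun q => h1 (by rw [q]; exact h0)
  have hca : c ≠ a := fun q => h2 (by rw [q]; exact h0)
  obtain ⟨p, hp, hpa, eb⟩ := translate_exists W.cls W.hx ha.1 ha.2 hb.1 hb.2 hab hba
  obtain ⟨q, hq, hqa, ec⟩ := translate_exists W.cls W.hx ha.1 ha.2 hc.1 hc.2 hac hca
  have hα : B (θ p) (w a) ≠ 0 := fun r => hpa ((hT p hp).2 r).2
  have hγ : B (θ q) (w a) ≠ 0 := fun r => hqa ((hT q hq).2 r).2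
  obtain ⟨σ, hσ, eσ⟩ : ∃ σ : ZMod 3, σ ≠ 0 ∧ w b = σ • refl B (θ p) (w a) := by
    rcases W.hasW_unique hb (eb ▸ W.hasW_translate ha hp) with r | r
    · exact ⟨1, one_ne_zero, by rw [one_smul]; exact r⟩
    · exact ⟨-1, by decide, by rw [neg_one_smul]; exact r⟩
  obtain ⟨τ, hτ, eτ⟩ : ∃ τ : ZMod 3, τ ≠ 0 ∧ w c = τ • refl B (θ q) (w a) := by
    rcases W.hasW_unique hc (ec ▸ W.hasW_translate ha hq) with r | r
    · exact ⟨1, one_ne_zero, by rw [one_smul]; exact r⟩
    · exact ⟨-1, by decide, by rw [neg_one_smul]; exact r⟩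
  set α := B (θ p) (w a) with hαd
  set γ := B (θ q) (w a) with hγd
  set β := B (θ p) (θ q) with hβd
  have eab : B (w a) (w b) = σ := by
    simp only [eσ, refl, map_smul, map_add, smul_eq_mul, h0, F.symm (w a) (θ p), ← hαd]
    linear_combination σ * mul_self_of_ne hα
  have eac : B (w a) (w c) = τ := by
    simp only [eτ, refl, map_smul, map_add, smul_eq_mul, h0, F.symm (w a) (θ q), ← hγd]
    linear_combination τ * mul_self_of_ne hγ
  have ebc : B (w b) (w c) = σ * τ * (2 + α * γ * β) := by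
    simp only [eσ, eτ, refl, map_smul, map_add, smul_eq_mul, LinearMap.add_apply,
      LinearMap.smul_apply, h0, F.symm (w a) (θ q), ← hαd, ← hγd, ← hβd]
    linear_combination (σ * τ) * mul_self_of_ne hα + (σ * τ) * mul_self_of_ne hγ
  rw [eps, eps, if_pos hab, if_pos hac, eab, eac]
  have hpq : p ≠ q := fun r => h3 (by
    rw [← eb, ← ec, r]
    exact (W.hasW _ (translate_far W.cls ha.1 ha.2 hq)).1)
  by_cases hcpq : Commute p q
  · have hb0 : β = 0 := (W.pts.comm p hp q hq hpq).1 hcpq
    have hbc : Commute b c := by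
      rw [← eb, ← ec, commute_cj_iff]
      exact conj_disjoint W.cls hp.1 hq.1 ha.1 hcpq hpa hqa
    rw [eps, if_pos hbc, ebc, hb0]
    linear_combination (-2 : ZMod 3) * mul_self_of_ne (mul_ne_zero hσ hτ) +
      (-1 : ZMod 3) * three_zero
  have hb1 : β ≠ 0 := fun r => hcpq ((W.pts.comm p hp q hq hpq).2 r)
  have hprod : α * γ * β = -1 := by
    rcases eq_or_neg (mul_ne_zero (mul_ne_zero hα hγ) hb1) with r | r
    · exact absurd (by rw [ebc, r, show (2 : ZMod 3) + 1 = 0 from rfl, mul_zero]) h3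
    · exact r
  have hm : cj p q ∈ T D x a := by
    refine (hT _ (W.cj_mem hp hq)).2 ?_
    rw [Is.zero (W.is_cj hp hq), refl, map_add, LinearMap.add_apply, map_smul,
      LinearMap.smul_apply, smul_eq_mul, ← hαd, ← hγd, ← hβd]
    linear_combination γ * hprod - (α * β) * mul_self_of_ne hγ
  have hbc : ¬ Commute b c := by
    intro r
    rw [← eb, ← ec, commute_cj_iff, ← commute_cj_iff (g := p), W.cls.cj_invol hp.1,
      cj_cj_cj W.cls, ← cj_eq_of_commute hm.2, commute_cj_iff, cj_eq_of_commute hm.2] at r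
    rw [W.cls.braid hp.1 ha.1 hpa] at r
    exact (W.cls.not_commute_cj ha.1 hp.1 fun r => hpa r.symm).2 r
  rw [eps, if_neg hbc, ebc, hprod]
  linear_combination mul_self_of_ne (mul_ne_zero hσ hτ)

/-- The sign rule on a triangle. -/
theorem tri {a b c : G} (ha : Far D x a) (hb : Far D x b) (hc : Far D x c)
    (h1 : B (w a) (w b) ≠ 0) (h2 : B (w a) (w c) ≠ 0) (h3 : B (w b) (w c) ≠ 0) :
    eps B w a b * eps B w a c * eps B w b c = 1 := by
  have step : ∀ b c : G, Far D x b → Far D x c → Commute a b → B (w a) (w b) ≠ 0 →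
      B (w a) (w c) ≠ 0 → B (w b) (w c) ≠ 0 →
      eps B w a b * eps B w a c * eps B w b c = 1 := by
    intro b c hb hc hab h1 h2 h3
    by_cases hac : Commute a c
    · exact W.tri_aux ha hb hc hab hac h1 h2 h3
    obtain ⟨σ, hσ, e⟩ := W.exists_sigma hc
    have hac' : Commute a (cj x c) := not_not.1 fun q => hac ((W.exactly_one ha hc h2).2 q)
    have := W.tri_aux ha hb (W.far_flip hc) hab hac' h1
      (by rw [e, map_smul]; exact mul_ne_zero hσ h2) (by rw [e, map_smul]; exact mul_ne_zero hσ h3)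
    rw [W.eps_flip ha hc h2 e, W.eps_flip hb hc h3 e] at this
    linear_combination this -
      (eps B w a b * eps B w a c * eps B w b c) * mul_self_of_ne hσ
  by_cases hab : Commute a b
  · exact step b c hb hc hab h1 h2 h3
  obtain ⟨σ, hσ, e⟩ := W.exists_sigma hb
  have hab' : Commute a (cj x b) := not_not.1 fun q => hab ((W.exactly_one ha hb h1).2 q)
  have := step (cj x b) c (W.far_flip hb) hc hab'
    (by rw [e, map_smul]; exact mul_ne_zero hσ h1) h2
    (by rw [e, map_smul, LinearMap.smul_apply]; exact mul_ne_zero hσ h3)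
  rw [W.eps_flip ha hb h1 e, W.eps_symm (cj x b) c,
    W.eps_flip hc hb (by rwa [W.form.symm]) e, W.eps_symm c b] at this
  linear_combination this - (eps B w a b * eps B w a c * eps B w b c) * mul_self_of_ne hσ

end Wts

end Cfsg.Agent.H24.TTOrth
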