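import Mathlib

/-!
Elementary facts about non-degenerate symmetric forms over the field of three elements: norm one
vectors and isotropic vectors orthogonal or not orthogonal to a few given ones.
-/

set_option autoImplicit false
set_option linter.unusedSectionVars false

namespace Cfsg.Agent.H24.TTOrth

variable {V : Type*} [AddCommGroup V] [Module (ZMod 3) V]

/-- A non-degenerate symmetric bilinear form. -/
structure Form (B : V →ₗ[ZMod 3] V →ₗ[ZMod 3] ZMod 3) : Prop where
  symm : ∀ u v : V, B u v = B v u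
  nd : ∀ v : V, (∀ u : V, B v u = 0) → v = 0

/-- Non-degeneracy on a subspace. -/
def ND (B : V →ₗ[ZMod 3] V →ₗ[ZMod 3] ZMod 3) (X : Submodule (ZMod 3) V) : Prop :=
  ∀ v ∈ X, (∀ u ∈ X, B v u = 0) → v = 0

/-- The orthogonal of a vector inside a subspace. -/
def perp (B : V →ₗ[ZMod 3] V →ₗ[ZMod 3] ZMod 3) (X : Submodule (ZMod 3) V) (a : V) :
    Submodule (ZMod 3) V := X ⊓ LinearMap.ker (B a)

theorem mul_self_of_ne {c : ZMod 3} (h : c ≠ 0) : c * c = 1 := by revert c; decide

theorem eq_or_neg {c : ZMod 3} (h : c ≠ 0) : c = 1 ∨ c = -1 := by revert c; decide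

variable {B : V →ₗ[ZMod 3] V →ₗ[ZMod 3] ZMod 3}

theorem mem_perp {X : Submodule (ZMod 3) V} {a v : V} : v ∈ perp B X a ↔ v ∈ X ∧ B a v = 0 :=
  Iff.rfl

theorem finrank_perp [Finite V] (X : Submodule (ZMod 3) V) (a : V) :
    Module.finrank (ZMod 3) X ≤ Module.finrank (ZMod 3) (perp B X a) + 1 := by
  have h1 := Submodule.finrank_sup_add_finrank_inf_eq X (LinearMap.ker (B a))
  have h2 := (B a).finrank_range_add_finrank_ker
  have h3 : Module.finrank (ZMod 3) (LinearMap.range (B a)) ≤ 1 :=
    (Submodule.finrank_le _).trans_eq (Module.finrank_self _)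
  have h4 := Submodule.finrank_le (X ⊔ LinearMap.ker (B a))
  unfold perp
  omega

namespace Form

variable (F : Form B)
include F

theorem add_sq (u v : V) : B (u + v) (u + v) = B u u + B v v + 2 * B u v := by
  simp only [map_add, LinearMap.add_apply, F.symm v u]
  ring

theorem shift (v w : V) (k : ZMod 3) : B (v + k • w) (v + k • w) = B v v + k * k * B w w + 2 * k * B v w := by
  rw [F.add_sq]
  simp only [map_smul, LinearMap.smul_apply, smul_eq_mul]
  ring

theorem nd_top : ND B (⊤ : Submodule (ZMod 3) V) := fun v _ h => F.nd v fun u => h u trivial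

theorem nd_perp {X : Submodule (ZMod 3) V} (hX : ND B X) {a : V} (ha : a ∈ X) (hq : B a a ≠ 0) :
    ND B (perp B X a) := by
  intro v hv h
  refine hX v hv.1 fun u hu => ?_
  have hva : B v a = 0 := by rw [F.symm]; exact hv.2
  have := h (u - (B a a * B a u) • a) ⟨X.sub_mem hu (X.smul_mem _ ha), by
    show B a _ = 0
    rw [map_sub, map_smul, smul_eq_mul]
    linear_combination (-B a u) * mul_self_of_ne hq⟩
  rw [map_sub, map_smul, smul_eq_mul, hva, mul_zero, sub_zero] at this
  exact this

theorem nd_perp_pair {X : Submodule (ZMod 3) V} (hX : ND B X) {r s : V} (hr : r ∈ X) (hs : s ∈ X)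
    (h0 : B r r = 0) (hrs : B r s ≠ 0) : ND B (perp B (perp B X r) s) := by
  intro v hv h
  refine hX v hv.1.1 fun u hu => ?_
  have hvr : B v r = 0 := by rw [F.symm]; exact hv.1.2
  have hvs : B v s = 0 := by rw [F.symm]; exact hv.2
  set c := B r s with hc
  set m : ZMod 3 := c * B r u
  set l : ZMod 3 := c * (B s u - m * B s s)
  have hm : u - l • r - m • s ∈ perp B (perp B X r) s := by
    refine ⟨⟨X.sub_mem (X.sub_mem hu (X.smul_mem _ hr)) (X.smul_mem _ hs), ?_⟩, ?_⟩
    · show B r _ = 0
      simp only [map_sub, map_smul, smul_eq_mul, h0, ← hc, m]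
      linear_combination (-B r u) * mul_self_of_ne hrs
    · show B s _ = 0
      simp only [map_sub, map_smul, smul_eq_mul, F.symm s r, ← hc, l]
      linear_combination (-(B s u - m * B s s)) * mul_self_of_ne hrs
  have := h _ hm
  simpa [hvr, hvs] using this

theorem exists_aniso {X : Submodule (ZMod 3) V} (hX : ND B X)
    (h1 : 1 ≤ Module.finrank (ZMod 3) X) : ∃ a ∈ X, B a a ≠ 0 := by
  by_contra h
  push Not at h
  have : X = ⊥ := by
    rw [eq_bot_iff]
    intro v hv
    refine (Submodule.mem_bot _).2 (hX v hv fun u hu => ?_)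
    have e := h (v + u) (X.add_mem hv hu)
    rw [F.add_sq, h v hv, h u hu, zero_add, zero_add] at e
    exact (mul_eq_zero.1 e).resolve_left (by decide)
  rw [this, finrank_bot] at h1
  omega

variable [Finite V]

theorem exists_one {X : Submodule (ZMod 3) V} (hX : ND B X)
    (h2 : 2 ≤ Module.finrank (ZMod 3) X) : ∃ z ∈ X, B z z = 1 := by
  obtain ⟨a, ha, hq⟩ := F.exists_aniso hX (by omega)
  have hd := finrank_perp (B := B) X a
  obtain ⟨u, hu, hqu⟩ := F.exists_aniso (F.nd_perp hX ha hq) (by omega)
  rcases eq_or_neg hq with e | e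
  · exact ⟨a, ha, e⟩
  rcases eq_or_neg hqu with e' | e'
  · exact ⟨u, hu.1, e'⟩
  refine ⟨a + u, X.add_mem ha hu.1, ?_⟩
  rw [F.add_sq, e, e', show B a u = 0 from hu.2]
  decide

omit [Finite V] in
/-- A vector not orthogonal to an isotropic one can be moved to norm one. -/
theorem one_of_isotropic {v w : V} (hw : B w w = 0) (hvw : B v w ≠ 0) :
    ∃ k : ZMod 3, B (v + k • w) (v + k • w) = 1 := by
  refine ⟨2 * B v w * (1 - B v v), ?_⟩
  rw [F.shift, hw]
  revert hvw
  generalize B v w = c
  generalize B v v = d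
  revert c d
  decide

/-- A non-zero isotropic vector is determined, up to sign, by the norm one vectors orthogonal to
it. -/
theorem isotropic_unique {X : Submodule (ZMod 3) V} (hX : ND B X)
    (hd : 4 ≤ Module.finrank (ZMod 3) X) {w w' : V} (hw : w ∈ X) (hw' : w' ∈ X) (hne : w ≠ 0)
    (hne' : w' ≠ 0) (h0 : B w w = 0) (h0' : B w' w' = 0)
    (h : ∀ z ∈ X, B z z = 1 → B z w = 0 → B z w' = 0) : w' = w ∨ w' = -w := by
  have hww : B w w' = 0 := by
    by_contra hb
    have hd1 := finrank_perp (B := B) X w
    have hd2 := finrank_perp (B := B) (perp B X w) w'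
    obtain ⟨z, hz, hz1⟩ := F.exists_one (F.nd_perp_pair hX hw hw' h0 hb) (by omega)
    have hzw : B z w = 0 := by rw [F.symm]; exact hz.1.2
    have hzw' : B z w' = 0 := by rw [F.symm]; exact hz.2
    have := h (z + w) (X.add_mem hz.1.1 hw) (by rw [F.add_sq, hz1, h0, hzw]; ring)
      (by rw [map_add, LinearMap.add_apply, hzw, h0, add_zero])
    rw [map_add, LinearMap.add_apply, hzw', zero_add] at this
    exact hb this
  have hall : ∀ v ∈ X, B v w = 0 → B v w' = 0 := by
    intro v hv hvw
    by_contra hb
    obtain ⟨k, hk⟩ := F.one_of_isotropic h0' hb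
    have := h (v + k • w') (X.add_mem hv (X.smul_mem _ hw')) hk
      (by simp [hvw, F.symm w' w, hww])
    simp [h0', hb] at this
  obtain ⟨p, hp, hpw⟩ : ∃ p ∈ X, B w p ≠ 0 := by
    by_contra hh
    push Not at hh
    exact hne (hX w hw hh)
  set c := B w p with hc
  have key : w' = (c * B p w') • w := by
    refine sub_eq_zero.1 (hX _ (X.sub_mem hw' (X.smul_mem _ hw)) fun u hu => ?_)
    have := hall (u - (c * B w u) • p) (X.sub_mem hu (X.smul_mem _ hp)) (by
      simp only [map_sub, map_smul, LinearMap.sub_apply, LinearMap.smul_apply, smul_eq_mul,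
        F.symm p w, F.symm u w, ← hc]
      linear_combination (-B w u) * mul_self_of_ne hpw)
    simp only [map_sub, map_smul, LinearMap.sub_apply, LinearMap.smul_apply, smul_eq_mul] at this ⊢
    rw [F.symm w' u]
    linear_combination this
  have hc0 : c * B p w' ≠ 0 := fun e => hne' (by rw [key, e, zero_smul])
  rcases eq_or_neg hc0 with e | e
  · exact Or.inl (by rw [key, e, one_smul])
  · exact Or.inr (by rw [key, e]; module)

omit F in
/-- Three non-zero functionals do not vanish on complementary parts of the whole space. -/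
theorem exists_three (F : Form B) {a b c : V} (ha : a ≠ 0) (hb : b ≠ 0) (hc : c ≠ 0) :
    ∃ v : V, B v a ≠ 0 ∧ B v b ≠ 0 ∧ B v c ≠ 0 := by
  classical
  have := Fintype.ofFinite V
  have half : ∀ a : V, a ≠ 0 → 3 * (Finset.univ.filter fun v : V => B v a = 0).card = Fintype.card V := by
    intro a ha
    obtain ⟨u, hu⟩ : ∃ u, B u a = 1 := by
      obtain ⟨u, hu⟩ : ∃ u, B a u ≠ 0 := by
        by_contra hh
        push Not at hh
        exact ha (F.nd a hh)
      refine ⟨B a u • u, ?_⟩
      rw [map_smul, LinearMap.smul_apply, smul_eq_mul, F.symm u a, mul_self_of_ne hu]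
    let e : V ≃ {v : V // B v a = 0} × ZMod 3 :=
      { toFun := fun v => (⟨v - B v a • u, by simp [hu]⟩, B v a)
        invFun := fun p => p.1.1 + p.2 • u
        left_inv := fun v => by simp
        right_inv := fun p => by ext <;> simp [hu, p.1.2] }
    rw [Fintype.card_congr e, Fintype.card_prod, ZMod.card, Fintype.card_subtype]
    ring
  by_contra h
  push Not at h
  set Za := Finset.univ.filter fun v : V => B v a = 0
  set Zb := Finset.univ.filter fun v : V => B v b = 0
  set Zc := Finset.univ.filter fun v : V => B v c = 0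
  have hcov : Finset.univ = Za ∪ Zb ∪ Zc := by
    ext v
    simp only [Za, Zb, Zc, Finset.mem_univ, Finset.mem_union, Finset.mem_filter, true_and, true_iff]
    by_cases h1 : B v a = 0
    · exact Or.inl (Or.inl h1)
    by_cases h2 : B v b = 0
    · exact Or.inl (Or.inr h2)
    exact Or.inr (h v h1 h2)
  have e1 := Finset.card_union_add_card_inter Za Zb
  have e2 := Finset.card_union_le (Za ∪ Zb) Zc
  have e3 : 0 < (Za ∩ Zb).card := Finset.card_pos.2 ⟨0, by simp [Za, Zb]⟩
  have e4 := congrArg Finset.card hcov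
  rw [Finset.card_univ] at e4
  have := half a ha
  have := half b hb
  have := half c hc
  simp only [Za, Zb, Zc] at *
  omega

end Form

end Cfsg.Agent.H24.TTOrth
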