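import Cfsg.Agent.H24.TTOrth.Defs

/-!
Reflections of norm one, vectors at an isotropic line, and paths of isotropic vectors not
orthogonal to two given ones.
-/

set_option autoImplicit false
set_option linter.unusedSectionVars false

namespace Cfsg.Agent.H24.TTOrth

variable {V : Type*} [AddCommGroup V] [Module (ZMod 3) V]
  {B : V →ₗ[ZMod 3] V →ₗ[ZMod 3] ZMod 3}

/-- The reflection in a vector of norm one. -/
def refl (B : V →ₗ[ZMod 3] V →ₗ[ZMod 3] ZMod 3) (v y : V) : V := y + B v y • v

theorem refl_neg (v y : V) : refl B (-v) y = refl B v y := by simp [refl]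

theorem refl_smul (v y : V) (k : ZMod 3) : refl B v (k • y) = k • refl B v y := by
  simp [refl, smul_add, smul_smul]

namespace Form

variable (F : Form B)
include F

theorem refl_refl {v : V} (hv : B v v = 1) (y : V) : refl B v (refl B v y) = y := by
  simp only [refl, map_add, map_smul, smul_eq_mul, hv, mul_one, add_smul]
  rw [add_assoc, ← add_smul, ← add_smul, show ∀ c : ZMod 3, c + (c + c) = 0 by decide, zero_smul,
    add_zero]

theorem refl_refl' {v : V} (hv : B v v = 1) (y z : V) :
    B (refl B v y) (refl B v z) = B y z := by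
  simp only [refl, map_add, map_smul, LinearMap.add_apply, LinearMap.smul_apply, smul_eq_mul, hv,
    F.symm y v]
  generalize B v y = a; generalize B v z = b; generalize B y z = c
  revert a b c; decide

theorem refl_adj {v : V} (hv : B v v = 1) (y z : V) : B (refl B v y) z = B y (refl B v z) := by
  conv_lhs => rw [← F.refl_refl hv z]
  exact F.refl_refl' hv _ _

theorem refl_ne_zero {v : V} (hv : B v v = 1) {y : V} (hy : y ≠ 0) : refl B v y ≠ 0 := fun e =>
  hy (by rw [← F.refl_refl hv y, e]; simp [refl])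

/-- A non-zero isotropic vector is determined up to sign by the norm one vectors orthogonal to
it, when the two candidates are orthogonal. -/
theorem unique_of_orth {X : Submodule (ZMod 3) V} (hX : ND B X) {w w' : V} (hw : w ∈ X)
    (hw' : w' ∈ X) (hne : w ≠ 0) (hne' : w' ≠ 0) (h0' : B w' w' = 0)
    (hww : B w w' = 0) (h : ∀ z ∈ X, B z z = 1 → B z w = 0 → B z w' = 0) : w' = w ∨ w' = -w := by
  have hall : ∀ v ∈ X, B v w = 0 → B v w' = 0 := by
    intro v hv hvw
    by_contra hb
    obtain ⟨k, hk⟩ := F.one_of_isotropic h0' hb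
    have := h (v + k • w') (X.add_mem hv (X.smul_mem _ hw')) hk
      (by simp [hvw, F.symm w' w, hww])
    simp [h0', hb] at this
  obtain ⟨p, hp, hpw⟩ : ∃ p ∈ X, B w p ≠ 0 := by
    by_contra hh
    push Not at hh
    exact hne (hX w hw hh)
  set c := B w p with hc
  have key : w' = (c * B p w') • w := by
    refine sub_eq_zero.1 (hX _ (X.sub_mem hw' (X.smul_mem _ hw)) fun u hu => ?_)
    have := hall (u - (c * B w u) • p) (X.sub_mem hu (X.smul_mem _ hp)) (by
      simp only [map_sub, map_smul, LinearMap.sub_apply, LinearMap.smul_apply, smul_eq_mul,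
        F.symm p w, F.symm u w, ← hc]
      linear_combination (-B w u) * mul_self_of_ne hpw)
    simp only [map_sub, map_smul, LinearMap.sub_apply, LinearMap.smul_apply, smul_eq_mul] at this ⊢
    rw [F.symm w' u]
    linear_combination this
  have hc0 : c * B p w' ≠ 0 := fun e => hne' (by rw [key, e, zero_smul])
  rcases eq_or_neg hc0 with e | e
  · exact Or.inl (by rw [key, e, one_smul])
  · exact Or.inr (by rw [key, e]; module)

variable [Finite V]

/-- An anisotropic vector orthogonal to two orthogonal isotropic ones. -/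
theorem exists_aniso_pair {X : Submodule (ZMod 3) V} (hX : ND B X)
    (hn : 5 ≤ Module.finrank (ZMod 3) X) {a c : V} (ha : a ∈ X) (hc : c ∈ X) (hne : a ≠ 0)
    (ha0 : B a a = 0) (hc0 : B c c = 0) (hac : B a c = 0) :
    ∃ d : V, B d a = 0 ∧ B d c = 0 ∧ B d d ≠ 0 := by
  obtain ⟨p, hp, hpa⟩ : ∃ p ∈ X, B a p ≠ 0 := by
    by_contra hh
    push Not at hh
    exact hne (hX a ha hh)
  have hY := F.nd_perp_pair hX ha hp ha0 hpa
  have hd1 := finrank_perp (B := B) X a
  have hd2 := finrank_perp (B := B) (perp B X a) p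
  set c' := c - (B a p * B p c) • a with hc'
  have hc'a : B a c' = 0 := by simp [c', ha0, hac]
  have hc'Y : c' ∈ perp B (perp B X a) p := by
    refine ⟨⟨X.sub_mem hc (X.smul_mem _ ha), hc'a⟩, ?_⟩
    show B p _ = 0
    simp only [c', map_sub, map_smul, smul_eq_mul, F.symm p a]
    linear_combination (-B p c) * mul_self_of_ne hpa
  have key : ∀ d ∈ perp B (perp B X a) p, B c' d = 0 → B d a = 0 ∧ B d c = 0 := by
    intro d hd hcd
    have h1 : B a d = 0 := hd.1.2
    refine ⟨by rw [F.symm]; exact h1, ?_⟩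
    rw [F.symm c' d] at hcd
    simpa [c', F.symm d a, h1] using hcd
  by_cases h0 : c' = 0
  · obtain ⟨d, hd, hq⟩ := F.exists_aniso hY (by omega)
    obtain ⟨e1, e2⟩ := key d hd (by rw [h0]; simp)
    exact ⟨d, e1, e2, hq⟩
  obtain ⟨p', hp', hpc⟩ : ∃ p' ∈ perp B (perp B X a) p, B c' p' ≠ 0 := by
    by_contra hh
    push Not at hh
    exact h0 (hY c' hc'Y hh)
  have hc'0 : B c' c' = 0 := by
    simp [c', hc0, ha0, hac, F.symm c a]
  have hd3 := finrank_perp (B := B) (perp B (perp B X a) p) c'
  have hd4 := finrank_perp (B := B) (perp B (perp B (perp B X a) p) c') p'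
  obtain ⟨d, hd, hq⟩ := F.exists_aniso (F.nd_perp_pair hY hc'Y hp' hc'0 hpc) (by omega)
  obtain ⟨e1, e2⟩ := key d hd.1.1 hd.1.2
  exact ⟨d, e1, e2, hq⟩

omit [Finite V] in
/-- An isotropic vector next to `h` and `h'`, with prescribed values at `a` and `c`. -/
theorem path_step {a c h : V} (ha0 : B a a = 0) (hac : B a c = 0) (hh : B h h = 0) (hha : B h a = 1)
    {d : V} (hda : B d a = 0) :
    ∃ k : V, B k k = 0 ∧ B k a = 1 ∧ B k c = B h c + B d c ∧ B h k = B d d ∧
      ∀ h' : V, B h' a = 1 → B h h' = 0 → B h' k = B h' d - B h d + B d d := by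
  set l := B d d - B h d
  refine ⟨h + d + l • a, ?_, ?_, ?_, ?_, ?_⟩
  · simp only [map_add, map_smul, LinearMap.add_apply, LinearMap.smul_apply, smul_eq_mul, hh, ha0,
      hha, hda, F.symm d h, F.symm a h, F.symm a d, l]
    generalize B h d = x; generalize B d d = y
    revert x y; decide
  · simp [hha, hda, ha0]
  · simp [hac]
  · simp only [map_add, map_smul, smul_eq_mul, hh, hha, l]
    ring
  · intro h' h1 h2
    simp only [map_add, map_smul, smul_eq_mul, h1, F.symm h' h, h2, l]
    ring

/-- Two isotropic vectors with the same values at `a` and `c` have a common neighbour with these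
values. -/
theorem path_same (hn : 5 ≤ Module.finrank (ZMod 3) V) {a c h h' : V} (hne : a ≠ 0)
    (ha0 : B a a = 0) (hc0 : B c c = 0) (hac : B a c = 0) (hh : B h h = 0) (hha : B h a = 1)
    (hha' : B h' a = 1) (hhh : B h h' = 0) :
    ∃ k : V, B k k = 0 ∧ B k a = 1 ∧ B k c = B h c ∧ B h k ≠ 0 ∧ B h' k ≠ 0 := by
  obtain ⟨d, hda, hdc, hq⟩ := F.exists_aniso_pair F.nd_top (by rwa [finrank_top])
    (Submodule.mem_top) (Submodule.mem_top : c ∈ ⊤) hne ha0 hc0 hac
  obtain ⟨d, hda, hdc, hq, hne'⟩ : ∃ d : V, B d a = 0 ∧ B d c = 0 ∧ B d d ≠ 0 ∧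
      B h' d - B h d + B d d ≠ 0 := by
    by_cases hs : B h' d - B h d + B d d ≠ 0
    · exact ⟨d, hda, hdc, hq, hs⟩
    refine ⟨-d, by simp [hda], by simp [hdc], by simpa using hq, fun e => hq ?_⟩
    rw [not_not] at hs
    simp only [map_neg, LinearMap.neg_apply, neg_neg] at e
    revert hs e
    generalize B h' d = x; generalize B h d = y; generalize B d d = z
    revert x y z; decide
  obtain ⟨k, h0, h1, h2, h3, h4⟩ := F.path_step ha0 hac hh hha hda
  exact ⟨k, h0, h1, by rw [h2, hdc, add_zero], by rwa [h3], by rwa [h4 h' hha' hhh]⟩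

omit [Finite V] in
/-- A neighbour of `h` with the values of `h'`. -/
theorem path_diff {a c h h' : V} (ha0 : B a a = 0) (hc0 : B c c = 0) (hac : B a c = 0)
    (hh : B h h = 0) (hh' : B h' h' = 0) (hha : B h a = 1) (hha' : B h' a = 1)
    (hhh : B h h' = 0) (hcc : B h' c ≠ B h c) :
    ∃ k : V, B k k = 0 ∧ B k a = 1 ∧ B k c = B h' c ∧ B h k ≠ 0 := by
  have hδ : B h' c - B h c ≠ 0 := sub_ne_zero.2 hcc
  have hdc : B (h' - h + c) c = B h' c - B h c := by simp [hc0]
  have hdd : B (h' - h + c) (h' - h + c) = 2 * (B h' c - B h c) := by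
    simp only [map_add, map_sub, LinearMap.add_apply, LinearMap.sub_apply, hh, hh', hc0, hhh,
      F.symm h' h, F.symm c h', F.symm c h]
    ring
  obtain ⟨k, h0, h1, h2, h3, -⟩ := F.path_step ha0 hac hh hha
    (d := h' - h + c) (by simp [hha, hha', F.symm c a, hac])
  refine ⟨k, h0, h1, by rw [h2, hdc]; ring, ?_⟩
  rw [h3, hdd]
  exact mul_ne_zero (by decide) hδ

/-- An isotropic vector not orthogonal to three pairwise orthogonal isotropic vectors. -/
theorem exists_isotropic_three {a b c : V} (ha : a ≠ 0) (hb : b ≠ 0) (hc : c ≠ 0) (h0 : B a a = 0)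
    (hab : B a b = 0) (hac : B a c = 0) :
    ∃ h : V, B h h = 0 ∧ B h a ≠ 0 ∧ B h b ≠ 0 ∧ B h c ≠ 0 := by
  obtain ⟨v, h1, h2, h3⟩ := F.exists_three ha hb hc
  refine ⟨v + (B v v * B v a) • a, ?_, by simpa [h0] using h1, by simpa [hab] using h2,
    by simpa [hac] using h3⟩
  rw [F.shift, h0]
  revert h1
  generalize B v v = x; generalize B v a = y
  revert x y; decide

end Form

/-- The four reflection vectors moving the isotropic vector `w'` and fixing `t`, `s`, `w`. -/
theorem four_refl (F : Form B) {t s w w' e : V} (ht : B t t = 1) (hs : B s s = 1)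
    (hts : B t s = 0) (hw : B w w = 0) (hww : B w w' = 1) (he : B e e = -1) (het : B e t = 0)
    (hes : B e s = 0) (hew : B e w = 0) (hew' : B e w' = 0) (hwt : B w t = 0) (hws : B w s = 0)
    (hwt' : B w' t = 0) (hws' : B w' s = 0) :
    B (e + (s - t)) (e + (s - t)) = 1 ∧ B (e - (s - t)) (e - (s - t)) = 1 ∧
    B (e - w + (s - t)) (e - w + (s - t)) = 1 ∧ B (e - w - (s - t)) (e - w - (s - t)) = 1 ∧
    let K := fun y : V => refl B (e + (s - t)) (refl B (e - (s - t))
      (refl B (e - w + (s - t)) (refl B (e - w - (s - t)) y)))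
    K t = t ∧ K s = s ∧ K w = w ∧ K w' = w' - w - e := by
  simp only [refl, map_add, map_sub, map_smul, LinearMap.add_apply, LinearMap.sub_apply,
    smul_eq_mul, ht, hs, hts, hw, hww, he, het, hes, hew, hew', hwt, hws, hwt', hws', F.symm s t,
    F.symm t e, F.symm s e, F.symm w e, F.symm t w, F.symm s w, F.symm t w', F.symm s w',
    F.symm w' w]
  refine ⟨by decide, by decide, by decide, by decide, ?_, ?_, ?_, ?_⟩
  all_goals
    match_scalars <;> decide

end Cfsg.Agent.H24.TTOrth
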